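import Mathlib
import Cfsg.Prelude.Def_OddOrderLocal
import Cfsg.Agent.Lib.Helper30.PiCore
import Cfsg.Agent.S2971

/-!
# Bender–Glauberman 12.1 (structure of a complement `E` of `M_σ` in `M`)

The type-level core (`core1`, `core3`) and the translation to the vocabulary of
`Def_OddOrderLocal`.
-/

set_option autoImplicit false

namespace Cfsg.Agent.Lib.Helper40.BG12

open Cfsg
open scoped commutatorElement

set_option linter.style.haveILetI false

/-- a nilpotent target and an injective hom: nilpotent source -/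
theorem isNilpotent_of_injective {H K : Type*} [Group H] [Group K] [Group.IsNilpotent K]
    (f : H →* K) (hf : Function.Injective f) : Group.IsNilpotent H :=
  Group.nilpotent_of_mulEquiv (MonoidHom.ofInjective hf).symm

theorem pRankLE_of_injective {H K : Type*} [Group H] [Group K] {p k : ℕ}
    (f : H →* K) (hf : Function.Injective f) (h : PRankLE p k K) : PRankLE p k H := by
  intro A hA hexp
  have h1 : IsMulCommutative ↥(A.map f) := by
    refine ⟨⟨?_⟩⟩
    rintro ⟨x, hx⟩ ⟨y, hy⟩
    obtain ⟨a, ha, rfl⟩ := hx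
    obtain ⟨b, hb, rfl⟩ := hy
    apply Subtype.ext
    have := congrArg Subtype.val (mul_comm' (⟨a, ha⟩ : ↥A) ⟨b, hb⟩)
    simp only [Subgroup.coe_mul] at this ⊢
    rw [← map_mul, ← map_mul, this]
  have h2 : ∀ x ∈ A.map f, x ^ p = 1 := by
    rintro x ⟨a, ha, rfl⟩
    rw [← map_pow, hexp a ha, map_one]
  have := h _ h1 h2
  rwa [Subgroup.card_map_of_injective hf] at this

/-- for odd `p`, a `p`-subgroup of a group of `p`-rank at most one is cyclic -/
theorem isCyclic_of_isPGroup_rank_one {G : Type*} [Group G] [Finite G] {p : ℕ} [Fact p.Prime]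
    (hp : p ≠ 2) (hrk : PRankLE p 1 G) (P : Subgroup G) (hP : IsPGroup p ↥P) : IsCyclic ↥P := by
  by_cases hb : P = ⊥
  · subst hb; infer_instance
  · haveI : Nontrivial ↥P := (Subgroup.nontrivial_iff_ne_bot P).2 hb
    haveI := hP.center_nontrivial
    have hpc : IsPGroup p ↥(Subgroup.center ↥P) := hP.to_subgroup _
    obtain ⟨n, hn⟩ := IsPGroup.iff_card.1 hpc
    have hn0 : n ≠ 0 := by
      rintro rfl
      rw [pow_zero] at hn
      have := Finite.one_lt_card (α := ↥(Subgroup.center ↥P))
      omega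
    have hdvd : p ∣ Nat.card ↥(Subgroup.center ↥P) := by
      rw [hn]; exact dvd_pow_self p hn0
    obtain ⟨z, hz⟩ := exists_prime_orderOf_dvd_card' p hdvd
    refine Cfsg.Agent.S2971.cyclic_of_rank_one hp hrk P hP (x := ((z : ↥P) : G)) (z : ↥P).2 ?_ ?_
    · rw [Subgroup.orderOf_coe, Subgroup.orderOf_coe, hz]
    · intro y hy
      have := (Subgroup.mem_center_iff.1 z.2) ⟨y, hy⟩
      have h2 := congrArg Subtype.val this
      simp only [Subgroup.coe_mul] at h2
      exact h2.symm

theorem mem_of_normal_of_coprime {E : Type*} [Group E] {N : Subgroup E} [N.Normal] {x : E}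
    (h : (orderOf x).Coprime N.index) : x ∈ N := by
  rw [← QuotientGroup.eq_one_iff, ← orderOf_eq_one_iff]
  have h1 : orderOf (x : E ⧸ N) ∣ orderOf x := orderOf_map_dvd (QuotientGroup.mk' N) x
  have h2 : orderOf (x : E ⧸ N) ∣ N.index := by
    rw [Subgroup.index_eq_card]; exact orderOf_dvd_natCard _
  exact Nat.eq_one_of_dvd_coprimes h h1 h2

theorem ne_two_of_dvd_odd {p n : ℕ} (hn : Odd n) (h : p ∣ n) : p ≠ 2 := by
  rintro rfl
  exact (Nat.not_even_iff_odd.2 hn) (even_iff_two_dvd.2 h)

/-- all Sylow subgroups of `H` are cyclic if all primes dividing `|H|` have rank `≤ 1` -/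
theorem isZGroup_of_rank_one {E : Type*} [Group E] [Finite E] (hodd : Odd (Nat.card E))
    (H : Subgroup E) (hH : ∀ p : ℕ, p.Prime → p ∣ Nat.card H → PRankLE p 1 E) : IsZGroup ↥H := by
  refine ⟨fun p hp P => ?_⟩
  haveI := Fact.mk hp
  by_cases hd : p ∣ Nat.card H
  · have hp2 : p ≠ 2 := ne_two_of_dvd_odd hodd (hd.trans (Subgroup.card_subgroup_dvd_card H))
    exact isCyclic_of_isPGroup_rank_one hp2
      (pRankLE_of_injective H.subtype H.subtype_injective (hH p hp hd)) _ P.2
  · have : Nat.card ↥(P : Subgroup ↥H) = 1 := by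
      obtain ⟨n, hn⟩ := IsPGroup.iff_card.1 P.2
      rcases Nat.eq_zero_or_pos n with rfl | h0
      · simpa using hn
      · exact absurd ((hn ▸ dvd_pow_self p h0.ne' : p ∣ Nat.card ↥(P : Subgroup ↥H)).trans
          (Subgroup.card_subgroup_dvd_card _)) hd
    haveI : Subsingleton ↥(P : Subgroup ↥H) := (Nat.card_eq_one_iff_unique.1 this).1
    infer_instance

theorem core1 {E : Type*} [Group E] [Finite E] (hodd : Odd (Nat.card E)) (H : Subgroup E)
    (hH : ∀ p : ℕ, p.Prime → p ∣ Nat.card H → ¬ p ∣ Nat.card (commutator E) ∧ PRankLE p 1 E) :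
    IsCyclic ↥H := by
  have hcop : (Nat.card H).Coprime (Nat.card (commutator E)) := by
    apply Nat.Coprime.symm
    apply Nat.coprime_of_dvd
    intro p hp h1 h2
    exact (hH p hp h2).1 h1
  have hbot : H ⊓ commutator E = ⊥ := (Subgroup.disjoint_of_coprime_natCard hcop).eq_bot
  have hcomm : ∀ a b : ↥H, a * b = b * a := by
    intro a b
    have h1 : ⁅(a : E), (b : E)⁆ ∈ H ⊓ commutator E := by
      refine ⟨?_, ?_⟩
      · rw [commutatorElement_def]
        exact H.mul_mem (H.mul_mem (H.mul_mem a.2 b.2) (H.inv_mem a.2)) (H.inv_mem b.2)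
      · rw [commutator_def]
        exact Subgroup.commutator_mem_commutator (Subgroup.mem_top _) (Subgroup.mem_top _)
    rw [hbot, Subgroup.mem_bot, commutatorElement_eq_one_iff_mul_comm] at h1
    exact Subtype.ext h1
  haveI : IsZGroup ↥H := isZGroup_of_rank_one hodd H (fun p hp hd => (hH p hp hd).2)
  letI : CommGroup ↥H := { (inferInstance : Group ↥H) with mul_comm := hcomm }
  infer_instance

theorem core3 {E : Type*} [Group E] [Finite E] (hodd : Odd (Nat.card E))
    (hnil : Group.IsNilpotent ↥(commutator E)) (π : Set ℕ)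
    (hπ : ∀ p ∈ π, p.Prime → p ∣ Nat.card (commutator E) ∧ PRankLE p 1 E)
    (H : Subgroup E) (h1 : ∀ p : ℕ, p.Prime → p ∣ Nat.card H → p ∈ π)
    (h2 : ∀ p : ℕ, p.Prime → p ∈ π → ¬ p ∣ H.index) :
    IsCyclic ↥H ∧ H ≤ commutator E ∧ H.Normal := by
  -- Sylow subgroups for primes in π
  have key : ∀ p ∈ π, ∀ hp : p.Prime, ∀ P : Sylow p E,
      (P : Subgroup E) ≤ commutator E ∧ (P : Subgroup E).Normal ∧ (P : Subgroup E) ≤ H := by
    intro p hpπ hp
    haveI := Fact.mk hp
    obtain ⟨hd, hrk⟩ := hπ p hpπ hp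
    have hp2 : p ≠ 2 := ne_two_of_dvd_odd hodd (hd.trans (Subgroup.card_subgroup_dvd_card _))
    have hle : ∀ P : Sylow p E, (P : Subgroup E) ≤ commutator E := by
      intro P
      haveI : IsCyclic ↥(P : Subgroup E) := isCyclic_of_isPGroup_rank_one hp2 hrk _ P.2
      have hidx : ¬ p ∣ (commutator E).index := by
        rcases Sylow.not_dvd_card_commutator_or_not_dvd_index_commutator P with h | h
        · exact absurd hd h
        · exact h
      intro x hx
      apply mem_of_normal_of_coprime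
      obtain ⟨k, hk⟩ := P.2 ⟨x, hx⟩
      have hk' : x ^ p ^ k = 1 := by simpa using congrArg Subtype.val hk
      obtain ⟨j, -, hj⟩ := (Nat.dvd_prime_pow hp).1 (orderOf_dvd_of_pow_eq_one hk')
      rw [hj]
      exact Nat.Coprime.pow_left _ ((Nat.Prime.coprime_iff_not_dvd hp).2 hidx)
    haveI hss : Subsingleton (Sylow p E) := by
      refine ⟨fun P Q => ?_⟩
      have hu := Sylow.unique_of_normal (P.subtype (hle P)) inferInstance
      have e : P.subtype (hle P) = Q.subtype (hle Q) := by
        rw [hu.uniq (P.subtype (hle P)), hu.uniq (Q.subtype (hle Q))]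
      have e2 : (P : Subgroup E).subgroupOf (commutator E) = (Q : Subgroup E).subgroupOf (commutator E) := by
        have := congrArg (fun S : Sylow p ↥(commutator E) => (S : Subgroup ↥(commutator E))) e
        simpa using this
      apply Sylow.ext
      have := congrArg (Subgroup.map (commutator E).subtype) e2
      rwa [Subgroup.map_subgroupOf_eq_of_le (hle P), Subgroup.map_subgroupOf_eq_of_le (hle Q)] at this
    intro P
    refine ⟨hle P, Sylow.normal_of_subsingleton P, ?_⟩
    -- a Sylow subgroup of H is Sylow in E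
    obtain ⟨Q⟩ : Nonempty (Sylow p ↥H) := inferInstance
    have hQ1 : IsPGroup p ↥((Q : Subgroup ↥H).map H.subtype) := Q.2.map _
    have hQ2 : ¬ p ∣ ((Q : Subgroup ↥H).map H.subtype).index := by
      rw [Subgroup.index_map_subtype]
      intro h
      rcases (Nat.Prime.dvd_mul hp).1 h with h | h
      · exact Q.not_dvd_index h
      · exact h2 p hp hpπ h
    have e : hQ1.toSylow hQ2 = P := Subsingleton.elim _ _
    rw [← e, IsPGroup.toSylow_coe]
    exact Subgroup.map_subtype_le _
  -- the join of these Sylow subgroups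
  set S : Set (Subgroup E) := {K | ∃ p ∈ π, p.Prime ∧ ∃ P : Sylow p E, (P : Subgroup E) = K} with hS
  have hKn : (sSup S).Normal := by
    apply Subgroup.sSup_normal
    rintro K ⟨p, hpπ, hp, P, rfl⟩
    exact (key p hpπ hp P).2.1
  have hKH : sSup S ≤ H := by
    apply sSup_le
    rintro K ⟨p, hpπ, hp, P, rfl⟩
    exact (key p hpπ hp P).2.2
  have hKc : sSup S ≤ commutator E := by
    apply sSup_le
    rintro K ⟨p, hpπ, hp, P, rfl⟩
    exact (key p hpπ hp P).1
  have hHK : H ≤ sSup S := by
    intro x hx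
    apply mem_of_normal_of_coprime
    apply Nat.Coprime.coprime_dvd_left (Subgroup.orderOf_dvd_natCard H hx)
    apply Nat.coprime_of_dvd
    intro p hp hd1 hd2
    haveI := Fact.mk hp
    have hpπ := h1 p hp hd1
    obtain ⟨P⟩ : Nonempty (Sylow p E) := inferInstance
    have hPle : (P : Subgroup E) ≤ sSup S := le_sSup ⟨p, hpπ, hp, P, rfl⟩
    exact P.not_dvd_index (hd2.trans (Subgroup.index_dvd_of_le hPle))
  have hEq : H = sSup S := le_antisymm hHK hKH
  have hHc : H ≤ commutator E := hEq ▸ hKc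
  refine ⟨?_, hHc, hEq ▸ hKn⟩
  haveI : IsZGroup ↥H := isZGroup_of_rank_one hodd H (fun p hp hd => (hπ p (h1 p hp hd) hp).2)
  haveI : Group.IsNilpotent ↥H :=
    isNilpotent_of_injective (Subgroup.inclusion hHc) (Subgroup.inclusion_injective hHc)
  infer_instance

/-! ### Translation -/

section Translate

set_option linter.unusedSectionVars false

variable {G : Type*} [Group G] [Finite G]

/-- the embedding `E → M / O_σ(M)` -/
noncomputable def toQuot (M E : Subgroup G) (hEM : E ≤ M) (S : Subgroup ↥M) [S.Normal] :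
    ↥E →* ↥M ⧸ S :=
  (QuotientGroup.mk' S).comp (Subgroup.inclusion hEM)

theorem toQuot_injective (M E : Subgroup G) (hEM : E ≤ M) (S : Subgroup ↥M) [S.Normal]
    (h : E ⊓ S.map M.subtype = ⊥) : Function.Injective (toQuot M E hEM S) := by
  rw [injective_iff_map_eq_one]
  intro x hx
  have h1 : Subgroup.inclusion hEM x ∈ S := by
    rw [← QuotientGroup.eq_one_iff]; exact hx
  have h2 : (x : G) ∈ E ⊓ S.map M.subtype := ⟨x.2, ⟨_, h1, rfl⟩⟩
  rw [h, Subgroup.mem_bot] at h2
  exact Subtype.ext h2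

theorem toQuot_surjective (M E : Subgroup G) (hEM : E ≤ M) (S : Subgroup ↥M) [S.Normal]
    (h : ∀ m ∈ M, ∃ a ∈ E, ∃ b ∈ S.map M.subtype, m = a * b) :
    Function.Surjective (toQuot M E hEM S) := by
  intro y
  obtain ⟨m, rfl⟩ := QuotientGroup.mk'_surjective S y
  obtain ⟨a, ha, b, ⟨b', hb', rfl⟩, hm⟩ := h m m.2
  refine ⟨⟨a, ha⟩, ?_⟩
  change QuotientGroup.mk' S (Subgroup.inclusion hEM ⟨a, ha⟩) = QuotientGroup.mk' S m
  rw [QuotientGroup.mk'_apply, QuotientGroup.mk'_apply, QuotientGroup.eq]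
  have : (Subgroup.inclusion hEM ⟨a, ha⟩)⁻¹ * m = b' := by
    apply Subtype.ext
    simp only [Subgroup.coe_mul, Subgroup.coe_inv, Subgroup.coe_inclusion]
    rw [hm]; simp
  rw [this]; exact hb'

theorem map_toQuot_commutator (M E : Subgroup G) (hEM : E ≤ M) (S : Subgroup ↥M) [S.Normal]
    (h : ∀ m ∈ M, ∃ a ∈ E, ∃ b ∈ S.map M.subtype, m = a * b) :
    (commutator ↥E).map (toQuot M E hEM S) = (commutator ↥M).map (QuotientGroup.mk' S) := by
  rw [commutator_def, commutator_def, Subgroup.map_commutator, Subgroup.map_commutator,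
    ← MonoidHom.range_eq_map, ← MonoidHom.range_eq_map,
    MonoidHom.range_eq_top.2 (toQuot_surjective M E hEM S h),
    MonoidHom.range_eq_top.2 (QuotientGroup.mk'_surjective S)]

theorem isNilpotent_map_mk_of_le {X : Type*} [Group X] (A S : Subgroup X) [A.Normal] [S.Normal]
    (hAS : A ≤ S) (T : Subgroup X) (hnil : Group.IsNilpotent ↥(T.map (QuotientGroup.mk' A))) :
    Group.IsNilpotent ↥(T.map (QuotientGroup.mk' S)) := by
  let φ : X ⧸ A →* X ⧸ S := QuotientGroup.map A S (MonoidHom.id X) hAS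
  have e : T.map (QuotientGroup.mk' S) = (T.map (QuotientGroup.mk' A)).map φ := by
    rw [Subgroup.map_map]
    congr 1
  rw [e]
  exact Group.nilpotent_of_surjective (φ.subgroupMap _) (φ.subgroupMap_surjective _)

/-- **Bender–Glauberman 12.1**, from the two facts of 10.2 that it uses. -/
theorem bg12_1 (hodd : Odd (Nat.card G)) (M : Subgroup G)
    (hα : alphaCore M ≤ sigmaCore M)
    (hnil : Group.IsNilpotent
      ↥((commutator ↥M).map (QuotientGroup.mk' (piCore (alpha M) ↥M))))
    (E : Subgroup G) (hE : IsComplIn E (sigmaCore M) M) :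
    Group.IsNilpotent ↥⁅E, E⁆ ∧
      (∀ E₁ : Subgroup G, IsPiHallOf (tau1 M) E₁ E → IsCyclic E₁) ∧
      ∀ E₃ : Subgroup G, IsPiHallOf (tau3 M) E₃ E →
        IsCyclic E₃ ∧ E₃ ≤ ⁅E, E⁆ ∧ E ≤ Subgroup.normalizer (E₃ : Set G) := by
  obtain ⟨hEM, -, hdisj, hprod⟩ := hE
  have hAS : piCore (alpha M) ↥M ≤ piCore (sigma M) ↥M :=
    (Subgroup.map_le_map_iff_of_injective M.subtype_injective).1 hα
  have hoddE : Odd (Nat.card ↥E) :=
    Odd.of_dvd_nat hodd (Subgroup.card_subgroup_dvd_card E)
  have hinj := toQuot_injective M E hEM (piCore (sigma M) ↥M) hdisj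
  have hmap := map_toQuot_commutator M E hEM (piCore (sigma M) ↥M) hprod
  have hnilS := isNilpotent_map_mk_of_le _ _ hAS (commutator ↥M) hnil
  -- nilpotency of the commutator subgroup of `E`
  have hnilE : Group.IsNilpotent ↥(commutator ↥E) := by
    rw [← hmap] at hnilS
    exact Group.nilpotent_of_mulEquiv
      ((commutator ↥E).equivMapOfInjective _ hinj).symm
  have hcomm : (commutator ↥E).map E.subtype = ⁅E, E⁆ := Subgroup.map_subtype_commutator E
  have hcardc : Nat.card ↥(commutator ↥E) = Nat.card ↥⁅E, E⁆ := by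
    rw [← hcomm, Subgroup.card_map_of_injective E.subtype_injective]
  have hrk : ∀ p : ℕ, PRankLE p 1 ↥M → PRankLE p 1 ↥E := fun p h =>
    pRankLE_of_injective (Subgroup.inclusion hEM) (Subgroup.inclusion_injective hEM) h
  refine ⟨?_, ?_, ?_⟩
  · rw [← hcomm]
    exact Group.nilpotent_of_mulEquiv
      ((commutator ↥E).equivMapOfInjective _ E.subtype_injective)
  · rintro E₁ ⟨h1, h2, -⟩
    have hc : Nat.card ↥(E₁.subgroupOf E) = Nat.card ↥E₁ :=
      Nat.card_congr (Subgroup.subgroupOfEquivOfLe h1).toEquiv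
    have := core1 hoddE (E₁.subgroupOf E) (by
      intro p hp hd
      rw [hc] at hd
      obtain ⟨-, -, -, h4, h5⟩ := h2 p hp hd
      refine ⟨fun h => h4 ?_, hrk p h5⟩
      rw [hcardc] at h
      exact h.trans (Subgroup.card_dvd_of_le (Subgroup.commutator_mono hEM hEM)))
    exact isCyclic_of_surjective _ (Subgroup.subgroupOfEquivOfLe h1).surjective
  · rintro E₃ ⟨h1, h2, h3⟩
    have hc : Nat.card ↥(E₃.subgroupOf E) = Nat.card ↥E₃ :=
      Nat.card_congr (Subgroup.subgroupOfEquivOfLe h1).toEquiv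
    obtain ⟨c1, c2, c3⟩ := core3 hoddE hnilE (tau3 M) (by
      rintro p ⟨-, hpσ, hpd, hpr⟩ hp
      refine ⟨?_, hrk p hpr⟩
      haveI := Fact.mk hp
      -- an element of order `p` in `M'`
      have hcM : Nat.card ↥(commutator ↥M) = Nat.card ↥⁅M, M⁆ := by
        rw [← Subgroup.map_subtype_commutator M,
          Subgroup.card_map_of_injective M.subtype_injective]
      rw [← hcM] at hpd
      obtain ⟨x, hx⟩ := exists_prime_orderOf_dvd_card' p hpd
      have hxS : (x : ↥M) ∉ piCore (sigma M) ↥M := by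
        intro hxS
        apply hpσ
        apply Cfsg.Agent.Lib.Helper30.piCore_isPi (G := ↥M) (sigma M) p hp
        have := Subgroup.orderOf_dvd_natCard _ hxS
        rwa [Subgroup.orderOf_coe, hx] at this
      have hord : orderOf (QuotientGroup.mk' (piCore (sigma M) ↥M) (x : ↥M)) = p := by
        have hdv : orderOf (QuotientGroup.mk' (piCore (sigma M) ↥M) (x : ↥M)) ∣ p := by
          have := orderOf_map_dvd (QuotientGroup.mk' (piCore (sigma M) ↥M)) (x : ↥M)
          rwa [Subgroup.orderOf_coe, hx] at this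
        rcases (Nat.dvd_prime hp).1 hdv with h | h
        · rw [orderOf_eq_one_iff, QuotientGroup.mk'_apply, QuotientGroup.eq_one_iff] at h
          exact absurd h hxS
        · exact h
      have hmem : QuotientGroup.mk' (piCore (sigma M) ↥M) (x : ↥M) ∈
          (commutator ↥E).map (toQuot M E hEM (piCore (sigma M) ↥M)) := by
        rw [hmap]; exact ⟨_, x.2, rfl⟩
      have := Subgroup.orderOf_dvd_natCard _ hmem
      rwa [hord, Subgroup.card_map_of_injective hinj] at this)
      (E₃.subgroupOf E) (by intro p hp hd; rw [hc] at hd; exact h2 p hp hd)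
      (by intro p hp hpπ; exact h3 p hp hpπ)
    refine ⟨isCyclic_of_surjective _ (Subgroup.subgroupOfEquivOfLe h1).surjective, ?_, ?_⟩
    · rw [← hcomm, ← Subgroup.map_subgroupOf_eq_of_le h1]
      exact Subgroup.map_mono c2
    · intro g hg
      rw [Subgroup.mem_normalizer_iff]
      intro x
      have hkey : ∀ (g : G) (hg : g ∈ E) (x : G), x ∈ E₃ → g * x * g⁻¹ ∈ E₃ := by
        intro g hg x hx
        have := c3.conj_mem ⟨x, h1 hx⟩ (Subgroup.mem_subgroupOf.2 hx) ⟨g, hg⟩
        exact Subgroup.mem_subgroupOf.1 this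
      refine ⟨hkey g hg x, fun h => ?_⟩
      have := hkey g⁻¹ (E.inv_mem hg) _ h
      simpa [mul_assoc] using this

end Translate

end Cfsg.Agent.Lib.Helper40.BG12
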