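import Cfsg.Agent.Lib.Helper40.BG10E
import Cfsg.Agent.Lib.Helper40.BG12a
import Cfsg.Agent.Lib.Helper28.RelBalance

/-!
# Bender–Glauberman: the `σ(M)'`-part of `F(M)` (statement S1439)

Conditional on `UT G` (S1403) and on the part (b) of the text of S1417.
-/

set_option autoImplicit false
set_option linter.style.haveILetI false

namespace Cfsg.Agent.Lib.Helper40.BG15

open Subgroup Cfsg.Agent.Lib.Helper28 Cfsg.Agent.Lib.Helper30 Cfsg.Agent.Lib.Helper2
  Cfsg.Agent.Lib.Helper68 Cfsg.Agent.Lib.Helper40.BG10 Cfsg.Agent.Lib.Helper40.BG12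

universe u

variable {G : Type u} [Group G]

/-- the part of the text of S1417 (B-G 12.5(b)) that is used here. -/
def T1417b (G : Type u) [Group G] : Prop :=
  ∀ (M : Subgroup G), IsCoatom M → ∀ (p : ℕ) [Fact p.Prime], p ∈ Cfsg.tau2 M → ∀ A : Subgroup G,
    (A ≤ M ∧ Cfsg.IsElementaryAbelian p A ∧ Nat.card A = p ^ 2) → ∀ P : Sylow p M,
      A ≤ (P : Subgroup M).map M.subtype →
        (∀ x ∈ (P : Subgroup M).map M.subtype, x ^ p = 1 ↔ x ∈ A) ∧
        ¬ Subgroup.normalizer ((((P : Subgroup M).map M.subtype : Subgroup G)) : Set G) ≤ M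

theorem isCyclic_of_rank_one_sub [Finite G] {p : ℕ} [Fact p.Prime] (hp : p ≠ 2) {M T : Subgroup G}
    (hTM : T ≤ M) (hT : IsPGroup p T) (hr : Cfsg.PRankLE p 1 M) : IsCyclic T := by
  have h1 : IsCyclic ↥(T.subgroupOf M) :=
    isCyclic_of_isPGroup_rank_one hp hr _ (hT.of_equiv (Subgroup.subgroupOfEquivOfLe hTM).symm)
  exact isCyclic_of_surjective _ (Subgroup.subgroupOfEquivOfLe hTM).surjective

/-- the elements of order dividing `p` in an abelian group, as a subgroup of `G` -/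
theorem normalizer_le_of_omega {p : ℕ} {T A : Subgroup G} (hAT : A ≤ T)
    (h : ∀ x ∈ T, x ^ p = 1 ↔ x ∈ A) : normalizer (T : Set G) ≤ normalizer (A : Set G) := by
  have key : ∀ g ∈ normalizer (T : Set G), ∀ x ∈ A, g * x * g⁻¹ ∈ A := by
    intro g hg x hx
    have hxT : g * x * g⁻¹ ∈ T := (mem_normalizer_iff.mp hg x).mp (hAT hx)
    rw [← h _ hxT, conj_pow, (h x (hAT hx)).2 hx]; group
  intro g hg
  rw [mem_normalizer_iff]
  intro x
  refine ⟨key g hg x, fun hx => ?_⟩
  have := key g⁻¹ (inv_mem hg) _ hx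
  simpa [mul_assoc] using this

/-- for `t ∉ σ(M)`, `O_t(M) ≠ 1` forces `t ∈ τ₂(M)`. -/
theorem mem_tau2_of_opIn_ne_bot [Finite G] (hG : Cfsg.IsMinSimpleOddOrder G) (hU : UT G)
    {M : Subgroup G} (hM : IsCoatom M) {t : ℕ} [ht : Fact t.Prime] (hts : t ∉ Cfsg.sigma M)
    (hT1 : opIn t M ≠ ⊥) : t ∈ Cfsg.tau2 M := by
  have hr2 : Cfsg.PRankLE t 2 M := by
    by_contra h
    exact hts (mem_sigma_of_mem_alpha hG hU hM ⟨ht.out, h⟩)
  refine ⟨ht.out, hts, hr2, fun hr1 => ?_⟩
  have htG : t ∣ Nat.card G :=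
    (dvd_card_of_isPGroup_ne_bot (opIn_isPGroup t M) hT1).trans (Subgroup.card_subgroup_dvd_card _)
  have ht2 : t ≠ 2 := ne_two_of_dvd_card hG htG
  -- `O_t(M)` is cyclic; its subgroup of order `t` is normal in `M`
  have hcyc : IsCyclic ↥(opIn t M) :=
    isCyclic_of_rank_one_sub ht2 (opIn_le t M) (opIn_isPGroup t M) hr1
  obtain ⟨z, hzT, -, hzo⟩ := exists_central_order_p (opIn_isPGroup t M) hT1
  set X := zpowers z with hX
  have hXc : Nat.card X = t := by rw [hX, Nat.card_zpowers, hzo]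
  have hXT : X ≤ opIn t M := by rw [hX, zpowers_le]; exact hzT
  have hzt : z ^ t = 1 := by rw [← hzo]; exact pow_orderOf_eq_one z
  -- every element of order dividing `t` in `O_t(M)` lies in `X`
  have hom : ∀ x ∈ opIn t M, x ^ t = 1 ↔ x ∈ X := by
    intro x hx
    constructor
    · intro hxt
      by_contra hxX
      have hc : Commute x z := by
        obtain ⟨g, hg⟩ := IsCyclic.exists_generator (α := ↥(opIn t M))
        obtain ⟨i, hi⟩ := Subgroup.mem_zpowers_iff.1 (hg ⟨x, hx⟩)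
        obtain ⟨j, hj⟩ := Subgroup.mem_zpowers_iff.1 (hg ⟨z, hzT⟩)
        have hi' : (g : G) ^ i = x := by simpa using congrArg Subtype.val hi
        have hj' : (g : G) ^ j = z := by simpa using congrArg Subtype.val hj
        rw [← hi', ← hj']
        exact (Commute.refl (g : G)).zpow_zpow i j
      have hAe : Cfsg.IsElementaryAbelian t (X ⊔ zpowers x) := by
        apply ea_sup (ea_zpowers' hzt) (ea_zpowers' hxt)
        intro a ha b hb
        obtain ⟨i, rfl⟩ := Subgroup.mem_zpowers_iff.1 ha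
        obtain ⟨j, rfl⟩ := Subgroup.mem_zpowers_iff.1 hb
        exact (hc.symm.zpow_zpow i j)
      have hlt : X < X ⊔ zpowers x := by
        refine lt_of_le_of_ne le_sup_left fun h => hxX ?_
        rw [h]; exact mem_sup_right (mem_zpowers x)
      have hcard : t < Nat.card ↥(X ⊔ zpowers x) := hXc ▸ card_lt_of_lt hlt
      have hAM : X ⊔ zpowers x ≤ M :=
        sup_le (hXT.trans (opIn_le t M)) (by rw [zpowers_le]; exact opIn_le t M hx)
      exact not_pRankLE_of_elementary hAM hAe (by simpa using hcard) hr1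
    · intro hxX
      exact (ea_zpowers' hzt).2 x hxX
  have hMX : M ≤ normalizer (X : Set G) :=
    (le_normalizer_opIn t M).trans (normalizer_le_of_omega hXT hom)
  have hX1 : X ≠ ⊥ := by
    intro h
    rw [h, Subgroup.card_bot] at hXc
    exact ht.out.one_lt.ne hXc
  have hXtop : X ≠ ⊤ := fun h => hM.1 (top_le_iff.mp (h ▸ hXT.trans (opIn_le t M)))
  have hNX : normalizer (X : Set G) ≤ M := by
    rcases hM.le_iff.mp hMX with h | h
    · exact absurd h (normalizer_ne_top hG hX1 hXtop)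
    · exact h.le
  exact (S1409_of hG hU M hM t hts X hXc hNX).1.2 hr1

/-- for `t ∉ σ(M)`, `O_t(M)` is cyclic. -/
theorem isCyclic_opIn [Finite G] (hG : Cfsg.IsMinSimpleOddOrder G) (hU : UT G) (h17 : T1417b G)
    {M : Subgroup G} (hM : IsCoatom M) {t : ℕ} [ht : Fact t.Prime] (hts : t ∉ Cfsg.sigma M) :
    IsCyclic ↥(opIn t M) := by
  by_cases hT1 : opIn t M = ⊥
  · rw [hT1]; infer_instance
  have htau := mem_tau2_of_opIn_ne_bot hG hU hM hts hT1
  have hr2 : Cfsg.PRankLE t 2 M := htau.2.2.1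
  have htG : t ∣ Nat.card G :=
    (dvd_card_of_isPGroup_ne_bot (opIn_isPGroup t M) hT1).trans (Subgroup.card_subgroup_dvd_card _)
  have ht2 : t ≠ 2 := ne_two_of_dvd_card hG htG
  by_contra hnc
  -- an elementary abelian subgroup of order `t ^ 2` of `O_t(M)`
  have hr1 : ¬ Cfsg.PRankLE t 1 ↥(opIn t M) := fun h =>
    hnc (isCyclic_of_rank_one_sub ht2 le_rfl (opIn_isPGroup t M) h)
  obtain ⟨A, hAT, hA, hAc⟩ := exists_elementary_of_not_pRankLE hr1
  have hAM : A ≤ M := hAT.trans (opIn_le t M)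
  have hA2 : Nat.card A = t ^ 2 := card_eq_sq hr2 hAM hA (by simpa using hAc)
  obtain ⟨P⟩ : Nonempty (Sylow t M) := inferInstance
  have hTP : opIn t M ≤ (P : Subgroup M).map M.subtype :=
    opIn_le_of_isSylowIn (isSylowIn_of_sylow P)
  obtain ⟨hom, hN⟩ := h17 M hM t htau A ⟨hAM, hA, hA2⟩ P (hAT.trans hTP)
  have hMA : M ≤ normalizer (A : Set G) :=
    (le_normalizer_opIn t M).trans (normalizer_le_of_omega hAT (fun x hx => hom x (hTP hx)))
  have hA1 : A ≠ ⊥ := by
    intro h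
    rw [h, Subgroup.card_bot] at hA2
    have := ht.out.one_lt
    nlinarith
  have hAtop : A ≠ ⊤ := fun h => hM.1 (top_le_iff.mp (h ▸ hAM))
  have hNA : normalizer (A : Set G) ≤ M := by
    rcases hM.le_iff.mp hMA with h | h
    · exact absurd h (normalizer_ne_top hG hA1 hAtop)
    · exact h.le
  exact hN ((normalizer_le_of_omega (hAT.trans hTP) hom).trans hNA)

theorem piNat_of_isPGroup [Finite G] {π : Set ℕ} {t : ℕ} [ht : Fact t.Prime] (htπ : t ∈ π)
    {T : Subgroup G} (hT : IsPGroup t T) : PiNat π (Nat.card T) := by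
  intro q hq hqd
  obtain ⟨n, hn⟩ := IsPGroup.iff_card.mp hT
  rw [hn] at hqd
  have := (Nat.prime_dvd_prime_iff_eq hq ht.out).mp (hq.dvd_of_dvd_pow hqd)
  rw [this]; exact htπ

/-- Statement S1439, conditional on `UT G` and the text of S1417(b). -/
theorem S1439_of [Finite G] (hG : Cfsg.IsMinSimpleOddOrder G) (hU : UT G) (h17 : T1417b G)
    (M : Subgroup G) (hM : IsCoatom M) :
    IsCyclic ↥(Cfsg.piCoreOf {q | q.Prime ∧ q ∉ Cfsg.sigma M} (Cfsg.fittingOf M)) ∧
      (∀ p : ℕ, p.Prime →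
        p ∣ Nat.card ↥(Cfsg.piCoreOf {q | q.Prime ∧ q ∉ Cfsg.sigma M} (Cfsg.fittingOf M)) →
          p ∈ Cfsg.tau2 M) ∧
      Cfsg.fittingOf M = Cfsg.fittingOf (Cfsg.sigmaCore M) ⊔
        Cfsg.piCoreOf {q | q.Prime ∧ q ∉ Cfsg.sigma M} (Cfsg.fittingOf M) := by
  change IsCyclic ↥(Cfsg.piCoreOf {q | q.Prime ∧ q ∉ Cfsg.sigma M} (fitIn M)) ∧
      (∀ p : ℕ, p.Prime →
        p ∣ Nat.card ↥(Cfsg.piCoreOf {q | q.Prime ∧ q ∉ Cfsg.sigma M} (fitIn M)) →
          p ∈ Cfsg.tau2 M) ∧
      fitIn M = fitIn (Cfsg.sigmaCore M) ⊔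
        Cfsg.piCoreOf {q | q.Prime ∧ q ∉ Cfsg.sigma M} (fitIn M)
  set π : Set ℕ := {q | q.Prime ∧ q ∉ Cfsg.sigma M} with hπ
  set Y := Cfsg.piCoreOf π (fitIn M) with hY
  have hYF : Y ≤ fitIn M := piCoreOf_le _ _
  have hYπ : PiNat π (Nat.card Y) := piCoreOf_isPi _ _
  refine ⟨?_, ?_, ?_⟩
  · -- cyclic
    haveI : Group.IsNilpotent ↥(fitIn M) := fitIn_isNilpotent M
    haveI : Group.IsNilpotent ↥Y :=
      isNilpotent_of_injective (Subgroup.inclusion hYF) (Subgroup.inclusion_injective hYF)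
    haveI : IsZGroup ↥Y := by
      refine ⟨fun t ht T => ?_⟩
      haveI := Fact.mk ht
      by_cases hd : t ∣ Nat.card Y
      · have hts : t ∉ Cfsg.sigma M := (hYπ t ht hd).2
        have hle : (T : Subgroup ↥Y).map Y.subtype ≤ opIn t M :=
          isPGroup_le_opIn ((map_subtype_le _).trans hYF) (T.2.map _)
        haveI := isCyclic_opIn hG hU h17 hM hts
        have h1 : IsCyclic ↥((T : Subgroup ↥Y).map Y.subtype) :=
          isCyclic_of_injective (Subgroup.inclusion hle) (Subgroup.inclusion_injective hle)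
        exact isCyclic_of_surjective _
          ((T : Subgroup ↥Y).equivMapOfInjective _ Y.subtype_injective).symm.surjective
      · have : Nat.card ↥(T : Subgroup ↥Y) = 1 := by
          obtain ⟨n, hn⟩ := IsPGroup.iff_card.1 T.2
          rcases Nat.eq_zero_or_pos n with rfl | h0
          · simpa using hn
          · exact absurd ((hn ▸ dvd_pow_self t h0.ne' : t ∣ Nat.card ↥(T : Subgroup ↥Y)).trans
              (Subgroup.card_subgroup_dvd_card _)) hd
        haveI : Subsingleton ↥(T : Subgroup ↥Y) := (Nat.card_eq_one_iff_unique.1 this).1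
        infer_instance
    infer_instance
  · intro t ht hd
    haveI := Fact.mk ht
    have hts : t ∉ Cfsg.sigma M := (hYπ t ht hd).2
    obtain ⟨y, hy⟩ := exists_prime_orderOf_dvd_card' t hd
    apply mem_tau2_of_opIn_ne_bot hG hU hM hts
    have hyo : orderOf (y : G) = t := by rw [Subgroup.orderOf_coe, hy]
    have hle : zpowers (y : G) ≤ opIn t M := by
      apply isPGroup_le_opIn
      · rw [zpowers_le]; exact hYF y.2
      · exact IsPGroup.of_card (n := 1) (by rw [Nat.card_zpowers, hyo, pow_one])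
    intro hbot
    rw [hbot, le_bot_iff, zpowers_eq_bot] at hle
    rw [hle, orderOf_one] at hyo
    exact ht.one_lt.ne hyo
  · apply le_antisymm
    · rw [fitIn_eq_iSup_opIn M]
      refine iSup_le fun t => ?_
      haveI : Fact (t : ℕ).Prime := ⟨t.2⟩
      by_cases hts : (t : ℕ) ∈ Cfsg.sigma M
      · refine le_trans ?_ le_sup_left
        have h1 : opIn (t : ℕ) M ≤ Cfsg.sigmaCore M :=
          le_piCoreOf (opIn_le _ M) (le_normalizer_opIn _ M)
            (piNat_of_isPGroup hts (opIn_isPGroup _ M))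
        exact le_fitIn h1 ((piCoreOf_le _ M).trans (le_normalizer_opIn _ M))
          (opIn_isPGroup _ M).isNilpotent
      · refine le_trans ?_ le_sup_right
        exact le_piCoreOf (opIn_le_fitIn _ M) ((fitIn_le M).trans (le_normalizer_opIn _ M))
          (piNat_of_isPGroup (π := π) (show (t : ℕ) ∈ π from ⟨t.2, hts⟩) (opIn_isPGroup _ M))
    · refine sup_le ?_ hYF
      rw [fitIn_eq_iSup_opIn (Cfsg.sigmaCore M)]
      refine iSup_le fun t => ?_
      haveI : Fact (t : ℕ).Prime := ⟨t.2⟩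
      have h1 : M ≤ normalizer (opIn (t : ℕ) (Cfsg.sigmaCore M) : Set G) :=
        (le_normalizer_piCoreOf (Cfsg.sigma M) M).trans (normalizer_le_normalizer_opIn _ _)
      exact (le_opIn ((opIn_le _ _).trans (piCoreOf_le _ M)) h1 (opIn_isPGroup _ _)).trans
        (opIn_le_fitIn _ M)

end Cfsg.Agent.Lib.Helper40.BG15
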