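import Cfsg.Agent.Lib.Helper40.BG16b
import Cfsg.Agent.Lib.Helper31.BG1217

/-!
# `M' = U M_σ` and `K* ≤ M''` for `K ≠ 1` (statement S1365)

Conditional on the texts of S1415, S1430, S1426 (first clause), S1360.
-/

set_option autoImplicit false
set_option linter.style.haveILetI false

namespace Cfsg.Agent.Lib.Helper40.BG16

open Subgroup Cfsg.Agent.Lib.Helper28 Cfsg.Agent.Lib.Helper30 Cfsg.Agent.Lib.Helper2
  Cfsg.Agent.Lib.Helper68 Cfsg.Agent.Lib.Helper40.BG12 Cfsg.Agent.Lib.Helper28.BG12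
open scoped commutatorElement

universe u

variable {G : Type u} [Group G]

/-- first clause of the text of S1426. -/
def T1426a (G : Type u) [Group G] : Prop :=
  ∀ (M : Subgroup G), IsCoatom M → ∀ (E : Subgroup G), Cfsg.IsComplIn E (Cfsg.sigmaCore M) M →
    Cfsg.sigmaCore M ⊓ centralizer (E : Set G) ≤ ⁅Cfsg.sigmaCore M, Cfsg.sigmaCore M⁆

/-- text of S1360. -/
def T1360 (G : Type u) [Group G] : Prop :=
  ∀ (M : Subgroup G), IsCoatom M → ∀ (K U : Subgroup G), Cfsg.IsSigmaDecomposition M K U →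
    ∃ U₀ : Subgroup G, U₀ ≤ U ∧ Monoid.exponent U₀ = Monoid.exponent U ∧
      ∀ u ∈ U₀, u ∈ Cfsg.sigmaHat M → u = 1

theorem commutator_le_U_sup [Finite G] (hG : Cfsg.IsMinSimpleOddOrder G) (h15 : T1415 G)
    (h30 : T1430 G) {M K U : Subgroup G} (hM : IsCoatom M)
    (D : Cfsg.IsSigmaDecomposition M K U) : ⁅M, M⁆ ≤ U ⊔ Cfsg.sigmaCore M := by
  have hW := isPiHallOf_U_sup hG hM D
  have hs := solvable_of_ne_top hG hM.1
  apply le_hall_of_normal hs hW (commutator_le_self M)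
    (le_normalizer_commutator le_normalizer le_normalizer)
  intro p hp hpd hk
  exact (kappa_subset_tau1 hG h15 h30 hM D.cyclic D.hall hk).2.2.2.1 hpd

/-- if `U = 1` then `K` is a complement of `M_σ`. -/
theorem isComplIn_K_of_U_eq_bot [Finite G] (hG : Cfsg.IsMinSimpleOddOrder G) {M K : Subgroup G}
    (hM : IsCoatom M) (D : Cfsg.IsSigmaDecomposition M K ⊥) :
    Cfsg.IsComplIn K (Cfsg.sigmaCore M) M := by
  have hS := sigmaCore_hall hG hM
  refine ⟨D.hall.1, hS.1, ?_, ?_⟩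
  · apply (Subgroup.disjoint_of_coprime_natCard _).eq_bot
    exact Nat.coprime_of_dvd (fun q hq h1 h2 => (D.hall.2.1 q hq h1).2.2.1 (hS.2.1 q hq h2))
  · intro m hm
    obtain ⟨a, ha, b, hb, rfl⟩ := D.compl.2.2.2 m hm
    rw [mem_bot] at ha
    obtain ⟨h, hh, n, hn, e⟩ := (Cfsg.Agent.Lib.Helper1.mem_sup_of_le_normalizer
      (D.hall.1.trans (le_normalizer_sigmaCore M))).mp hb
    exact ⟨h, hh, n, hn, by rw [ha, one_mul, e]⟩

/-- if `U ≠ 1` then `M_σ = [M_σ, U]`. -/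
theorem sigmaCore_le_commutator_U [Finite G] (hG : Cfsg.IsMinSimpleOddOrder G) (h60 : T1360 G)
    {M K U : Subgroup G} (hM : IsCoatom M) (D : Cfsg.IsSigmaDecomposition M K U) (hU1 : U ≠ ⊥) :
    Cfsg.sigmaCore M ≤ ⁅Cfsg.sigmaCore M, U⁆ := by
  have hS := sigmaCore_hall hG hM
  have hs := solvable_of_ne_top hG hM.1
  obtain ⟨U₀, hU₀, hexp, hreg⟩ := h60 M hM K U D
  have hU₀1 : U₀ ≠ ⊥ := by
    rintro rfl
    apply hU1
    have h1 : Monoid.exponent U = 1 := by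
      rw [← hexp]
      exact Monoid.exp_eq_one_iff.mpr inferInstance
    have h2 : Subsingleton U := Monoid.exp_eq_one_iff.mp h1
    exact (Subgroup.eq_bot_iff_forall U).mpr (fun x hx =>
      congrArg Subtype.val (Subsingleton.elim (⟨x, hx⟩ : U) 1))
  obtain ⟨⟨u, hu⟩, hu1'⟩ := Subgroup.ne_bot_iff_exists_ne_one.mp hU₀1
  have hu1 : u ≠ 1 := fun h => hu1' (Subtype.ext h)
  have hfix : Cfsg.sigmaCore M ⊓ centralizer (U₀ : Set G) = ⊥ := by
    rw [eq_bot_iff]
    rintro y ⟨hy, hyc⟩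
    rw [mem_bot]
    by_contra hy1
    exact hu1 (hreg u hu ⟨D.compl.1 (hU₀ hu), y, hy, hy1, mem_centralizer_iff.mp hyc u hu⟩)
  have h1 := commutator_sup_centralizer (A := U₀) (K := Cfsg.sigmaCore M)
    ((hU₀.trans D.compl.1).trans (le_normalizer_sigmaCore M))
    (Nat.coprime_of_dvd (fun q hq h1 h2 => not_sigma_of_decomp hG hM D hq
      (h1.trans (card_dvd_of_le hU₀)) (hS.2.1 q hq h2)))
    (Or.inr (isSolvable_of_le hS.1 hs))
  rw [hfix, sup_bot_eq] at h1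
  exact h1.ge.trans (commutator_mono le_rfl hU₀)

/-- the text of S1365, conditional. -/
theorem S1365_of [Finite G] (hG : Cfsg.IsMinSimpleOddOrder G) (h15 : T1415 G) (h30 : T1430 G)
    (h26 : T1426a G) (h60 : T1360 G)
    (M : Subgroup G) (hM : IsCoatom M) (K U : Subgroup G)
    (hKU : Cfsg.IsSigmaDecomposition M K U) (hK1 : K ≠ ⊥) :
    ⁅M, M⁆ = U ⊔ Cfsg.sigmaCore M ∧
      (Cfsg.sigmaCore M ⊓ Subgroup.centralizer (K : Set G)) ≤ ⁅⁅M, M⁆, ⁅M, M⁆⁆ := by
  have hS := sigmaCore_hall hG hM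
  have hs := solvable_of_ne_top hG hM.1
  have hσM' : Cfsg.sigmaCore M ≤ ⁅M, M⁆ := Cfsg.Agent.Lib.Helper31.sigmaCore_le_commutator hG hM
  have hUM' : U ≤ ⁅M, M⁆ := by
    obtain ⟨⟨k, hk⟩, hk1'⟩ := Subgroup.ne_bot_iff_exists_ne_one.mp hK1
    have hk1 : k ≠ 1 := fun h => hk1' (Subtype.ext h)
    have hreg := (decomp_good hG h15 h30 hM hKU hK1).2 k hk hk1
    have hfix : U ⊓ centralizer (K : Set G) = ⊥ := by
      rw [eq_bot_iff, ← hreg]
      refine inf_le_inf_left _ (centralizer_le ?_)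
      intro x hx
      rw [Set.mem_singleton_iff] at hx
      rw [hx]
      exact hk
    have h1 := commutator_sup_centralizer (A := K) (K := U) hKU.normal
      (Nat.coprime_of_dvd (fun q hq h1 h2 => not_kappa_of_decomp hKU hq h2 (hKU.hall.2.1 q hq h1)))
      (Or.inr (isSolvable_of_le hKU.compl.1 hs))
    rw [hfix, sup_bot_eq] at h1
    rw [← h1]
    exact commutator_mono hKU.compl.1 hKU.hall.1
  refine ⟨le_antisymm (commutator_le_U_sup hG h15 h30 hM hKU) (sup_le hUM' hσM'), ?_⟩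
  by_cases hU1 : U = ⊥
  · subst hU1
    exact (h26 M hM K (isComplIn_K_of_U_eq_bot hG hM hKU)).trans (commutator_mono hσM' hσM')
  · exact inf_le_left.trans ((sigmaCore_le_commutator_U hG h60 hM hKU hU1).trans
      (commutator_mono hσM' hUM'))

end Cfsg.Agent.Lib.Helper40.BG16
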