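import Cfsg.Agent.Lib.Helper40.BG12a
import Cfsg.Agent.Lib.Helper28.Rel
import Cfsg.Agent.Lib.Helper68.BG10C
import Cfsg.Agent.Lib.Helper1.Coprime

/-!
# Fusion in nilpotent Hall subgroups (statement S1384)

Abstract part: if every subgroup `K` of a finite group `G` has "strong Sylow fusion"
(`SF K`: `y, g y g⁻¹ ∈ P ∈ Syl_p(K)`, `g ∈ K` imply `g ∈ N_K(P) C_K(y)`), then the same holds for
every nilpotent Hall subgroup of every subgroup.  Induction on `|K| + |H|`.
-/

set_option autoImplicit false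
set_option linter.style.haveILetI false

namespace Cfsg.Agent.Lib.Helper40.BG16

open Subgroup Cfsg.Agent.Lib.Helper28 Cfsg.Agent.Lib.Helper30 Cfsg.Agent.Lib.Helper2
  Cfsg.Agent.Lib.Helper68 Cfsg.Agent.Lib.Helper40.BG12
open scoped commutatorElement

universe u

variable {G : Type u} [Group G]

/-- strong Sylow fusion inside the subgroup `K`. -/
def SF (K : Subgroup G) : Prop :=
  ∀ (p : ℕ) [Fact p.Prime] (P : Subgroup G), IsSylowIn p P K → ∀ y ∈ P, ∀ g ∈ K,
    g * y * g⁻¹ ∈ P → ∃ n ∈ K, n ∈ normalizer (P : Set G) ∧ ∃ c ∈ K, c * y = y * c ∧ g = n * c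

theorem exists_pow_decomp [Finite G] {P Q : Subgroup G}
    (hcop : (Nat.card P).Coprime (Nat.card Q))
    (hPQ : ∀ u ∈ P, ∀ v ∈ Q, u * v = v * u) :
    ∃ a b : ℕ, ∀ u ∈ P, ∀ v ∈ Q, (u * v) ^ a = u ∧ (u * v) ^ b = v := by
  obtain ⟨a, ha1, ha2⟩ := Nat.chineseRemainder hcop 1 0
  obtain ⟨b, hb1, hb2⟩ := Nat.chineseRemainder hcop 0 1
  refine ⟨a, b, fun u hu v hv => ?_⟩
  have hc : Commute u v := hPQ u hu v hv
  have hu1 : orderOf u ∣ Nat.card P := Subgroup.orderOf_dvd_natCard P hu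
  have hv1 : orderOf v ∣ Nat.card Q := Subgroup.orderOf_dvd_natCard Q hv
  have e1 : u ^ a = u ^ 1 := pow_eq_pow_iff_modEq.mpr (ha1.of_dvd hu1)
  have e2 : v ^ a = v ^ 0 := pow_eq_pow_iff_modEq.mpr (ha2.of_dvd hv1)
  have e3 : u ^ b = u ^ 0 := pow_eq_pow_iff_modEq.mpr (hb1.of_dvd hu1)
  have e4 : v ^ b = v ^ 1 := pow_eq_pow_iff_modEq.mpr (hb2.of_dvd hv1)
  rw [hc.mul_pow, hc.mul_pow, e1, e2, e3, e4]
  simp

theorem fitIn_eq_of_nilpotent {H : Subgroup G} (hHn : Group.IsNilpotent H) : fitIn H = H :=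
  le_antisymm (fitIn_le H) (le_fitIn le_rfl le_normalizer hHn)

theorem card_coprime_opIn_opPrimeIn [Finite G] (H : Subgroup G) (p : ℕ) [Fact p.Prime] :
    (Nat.card (opIn p H)).Coprime (Nat.card (opPrimeIn p H)) := by
  obtain ⟨n, hn⟩ := IsPGroup.iff_card.mp (opIn_isPGroup p H)
  rw [hn]
  exact Nat.Coprime.pow_left n (opPrimeIn_coprime p H).symm

theorem nil_comm [Finite G] (H : Subgroup G) (p : ℕ) [Fact p.Prime] :
    ∀ u ∈ opIn p H, ∀ v ∈ opPrimeIn p H, u * v = v * u := by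
  have h1 : ⁅opIn p H, opPrimeIn p H⁆ = ⊥ :=
    commutator_eq_bot_of_normalize ((opIn_le p H).trans (le_normalizer_opPrimeIn p H))
      ((opPrimeIn_le p H).trans (le_normalizer_opIn p H))
      (Subgroup.disjoint_of_coprime_natCard (card_coprime_opIn_opPrimeIn H p)).eq_bot
  intro u hu v hv
  have h2 : ⁅u, v⁆ ∈ ⁅opIn p H, opPrimeIn p H⁆ := Subgroup.commutator_mem_commutator hu hv
  rw [h1, mem_bot] at h2
  exact commutatorElement_eq_one_iff_mul_comm.mp h2

theorem nil_sup [Finite G] {H : Subgroup G} (hHn : Group.IsNilpotent H) (p : ℕ) [Fact p.Prime] :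
    opIn p H ⊔ opPrimeIn p H = H := by
  refine le_antisymm (sup_le (opIn_le p H) (opPrimeIn_le p H)) ?_
  have h := fitIn_le_sup p H
  rw [fitIn_eq_of_nilpotent hHn] at h
  exact h.trans (sup_le_sup_left inf_le_left _)

theorem nil_mul [Finite G] {H : Subgroup G} (hHn : Group.IsNilpotent H) (p : ℕ) [Fact p.Prime] :
    ∀ h ∈ H, ∃ u ∈ opIn p H, ∃ v ∈ opPrimeIn p H, h = u * v := by
  intro h hh
  rw [← nil_sup hHn p] at hh
  obtain ⟨u, hu, v, hv, e⟩ := (Cfsg.Agent.Lib.Helper1.mem_sup_of_le_normalizer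
    ((opIn_le p H).trans (le_normalizer_opPrimeIn p H))).mp hh
  exact ⟨u, hu, v, hv, e.symm⟩

theorem nil_card [Finite G] {H : Subgroup G} (hHn : Group.IsNilpotent H) (p : ℕ) [Fact p.Prime] :
    Nat.card H = Nat.card (opIn p H) * Nat.card (opPrimeIn p H) := by
  have h := Cfsg.Agent.Lib.Helper1.card_sup_of_coprime_le_normalizer
    ((opIn_le p H).trans (le_normalizer_opPrimeIn p H)) (card_coprime_opIn_opPrimeIn H p)
  rwa [nil_sup hHn p] at h

theorem le_normalizer_of_forall_opIn [Finite G] {H K : Subgroup G} (hHn : Group.IsNilpotent H)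
    (h : ∀ (p : ℕ) [Fact p.Prime], K ≤ normalizer (opIn p H : Set G)) :
    K ≤ normalizer (H : Set G) := by
  intro k hk
  apply Helper30.mem_normalizer_of_cj_eq
  have e : H = ⨆ p : Nat.Primes, opIn (p : ℕ) H := by
    rw [← fitIn_eq_iSup_opIn, fitIn_eq_of_nilpotent hHn]
  have e2 : Helper30.cj k (⨆ p : Nat.Primes, opIn (p : ℕ) H) = ⨆ p : Nat.Primes, Helper30.cj k (opIn (p : ℕ) H) :=
    Subgroup.map_iSup _ _
  have e3 : ∀ p : Nat.Primes, Helper30.cj k (opIn (p : ℕ) H) = opIn (p : ℕ) H := by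
    intro p
    haveI : Fact (p : ℕ).Prime := ⟨p.2⟩
    exact Helper30.cj_eq_of_mem_normalizer (h p hk)
  calc Helper30.cj k H = Helper30.cj k (⨆ p : Nat.Primes, opIn (p : ℕ) H) := by rw [← e]
    _ = ⨆ p : Nat.Primes, Helper30.cj k (opIn (p : ℕ) H) := e2
    _ = ⨆ p : Nat.Primes, opIn (p : ℕ) H := by simp only [e3]
    _ = H := e.symm

/-- the inductive step data: `P = O_p(H)` is a Sylow subgroup of `K`. -/
theorem opIn_isSylowIn [Finite G] {H K : Subgroup G} (hHK : H ≤ K) (hHn : Group.IsNilpotent H)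
    (hHall : (Nat.card H).Coprime (H.relIndex K)) (p : ℕ) [hp : Fact p.Prime]
    (hP1 : opIn p H ≠ ⊥) : IsSylowIn p (opIn p H) K := by
  refine ⟨(opIn_le p H).trans hHK, opIn_isPGroup p H, fun hd => ?_⟩
  rw [← relIndex_mul_relIndex _ _ _ (opIn_le p H) hHK] at hd
  have hc := nil_card hHn p
  have hpP : p ∣ Nat.card (opIn p H) := by
    obtain ⟨n, hn⟩ := IsPGroup.iff_card.mp (opIn_isPGroup p H)
    rw [hn]
    rcases Nat.eq_zero_or_pos n with h0 | h0
    · exfalso
      apply hP1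
      rw [h0, pow_zero] at hn
      exact (Subgroup.card_eq_one).mp hn
    · exact dvd_pow_self p h0.ne'
  have hpH : p ∣ Nat.card H := hc ▸ Dvd.dvd.mul_right hpP _
  have e1 : (opIn p H).relIndex H = Nat.card (opPrimeIn p H) := by
    have h1 := Cfsg.Agent.Lib.Helper1.card_mul_relIndex (opIn_le p H)
    rw [hc] at h1
    exact Nat.eq_of_mul_eq_mul_left Nat.card_pos h1
  rcases (Nat.Prime.dvd_mul hp.out).mp hd with h | h
  · rw [e1] at h
    exact (Nat.Prime.coprime_iff_not_dvd hp.out).mp (opPrimeIn_coprime p H).symm h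
  · exact Nat.Prime.not_coprime_iff_dvd.mpr ⟨p, hp.out, hpH, h⟩ hHall

theorem opPrimeIn_hall [Finite G] {H K : Subgroup G} (hHK : H ≤ K) (hHn : Group.IsNilpotent H)
    (hHall : (Nat.card H).Coprime (H.relIndex K)) (p : ℕ) [hp : Fact p.Prime] :
    (Nat.card (opPrimeIn p H)).Coprime ((opPrimeIn p H).relIndex K) := by
  rw [← relIndex_mul_relIndex _ _ _ (opPrimeIn_le p H) hHK]
  have hc := nil_card hHn p
  have e1 : (opPrimeIn p H).relIndex H = Nat.card (opIn p H) := by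
    have h1 := Cfsg.Agent.Lib.Helper1.card_mul_relIndex (opPrimeIn_le p H)
    rw [hc, mul_comm] at h1
    exact Nat.eq_of_mul_eq_mul_right Nat.card_pos h1
  rw [e1]
  refine Nat.Coprime.mul_right (card_coprime_opIn_opPrimeIn H p).symm ?_
  exact Nat.Coprime.coprime_dvd_left (hc ▸ Dvd.intro_left _ rfl) hHall

theorem nilHall_fusion_aux [Finite G] (hSF : ∀ K : Subgroup G, SF K) :
    ∀ (N : ℕ) (K H : Subgroup G), Nat.card K + Nat.card H ≤ N → H ≤ K → Group.IsNilpotent H →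
      (Nat.card H).Coprime (H.relIndex K) → ∀ x ∈ H, ∀ g ∈ K, g * x * g⁻¹ ∈ H →
        ∃ n ∈ K, n ∈ normalizer (H : Set G) ∧ ∃ c ∈ K, c * x = x * c ∧ g = n * c := by
  intro N
  induction N with
  | zero =>
    intro K H hN
    have : 0 < Nat.card K := Nat.card_pos
    omega
  | succ N ih =>
    intro K H hN hHK hHn hHall x hx g hg hgx
    by_cases hnorm : K ≤ normalizer (H : Set G)
    · exact ⟨g, hg, hnorm hg, 1, one_mem _, by simp, by simp⟩
    -- a prime `p` with `O_p(H)` not normal in `K`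
    obtain ⟨p, hp, hpK⟩ : ∃ (p : ℕ) (_ : Fact p.Prime), ¬ K ≤ normalizer (opIn p H : Set G) := by
      by_contra hcon
      push Not at hcon
      exact hnorm (le_normalizer_of_forall_opIn hHn (fun p _ => hcon p inferInstance))
    haveI := hp
    set P := opIn p H with hPdef
    set Q := opPrimeIn p H with hQdef
    have hPH : P ≤ H := opIn_le p H
    have hQH : Q ≤ H := opPrimeIn_le p H
    have hP1 : P ≠ ⊥ := by
      intro h
      apply hpK
      rw [h]
      intro k _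
      apply Helper30.mem_normalizer_of_cj_eq
      exact Subgroup.map_bot _
    have hcomm : ∀ u ∈ P, ∀ v ∈ Q, u * v = v * u := nil_comm H p
    have hmul : ∀ h ∈ H, ∃ u ∈ P, ∃ v ∈ Q, h = u * v := nil_mul hHn p
    have hcard : Nat.card H = Nat.card P * Nat.card Q := nil_card hHn p
    have hPK : IsSylowIn p P K := opIn_isSylowIn hHK hHn hHall p hP1
    have hQhall : (Nat.card Q).Coprime (Q.relIndex K) := opPrimeIn_hall hHK hHn hHall p
    have hQn : Group.IsNilpotent Q :=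
      isNilpotent_of_injective (Subgroup.inclusion hQH) (Subgroup.inclusion_injective hQH)
    have hPcard : 1 < Nat.card P := by
      rcases Nat.lt_or_ge 1 (Nat.card P) with h | h
      · exact h
      · exfalso
        apply hP1
        have : 0 < Nat.card P := Nat.card_pos
        exact (Subgroup.card_eq_one).mp (by omega)
    have hQlt : Nat.card Q < Nat.card H := by
      rw [hcard]
      have : 0 < Nat.card Q := Nat.card_pos
      nlinarith
    obtain ⟨a, b, hab⟩ := exists_pow_decomp (card_coprime_opIn_opPrimeIn H p) hcomm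
    obtain ⟨y, hy, z, hz, hxyz⟩ := hmul x hx
    obtain ⟨y', hy', z', hz', hxyz'⟩ := hmul _ hgx
    have hya : x ^ a = y := by rw [hxyz]; exact (hab y hy z hz).1
    have hzb : x ^ b = z := by rw [hxyz]; exact (hab y hy z hz).2
    have hgy : g * y * g⁻¹ ∈ P := by
      rw [← hya, ← conj_pow, hxyz', (hab y' hy' z' hz').1]
      exact hy'
    have hgz : g * z * g⁻¹ ∈ Q := by
      rw [← hzb, ← conj_pow, hxyz', (hab y' hy' z' hz').2]
      exact hz'
    -- Step A
    obtain ⟨m, hmK, hmQ, c, hcK, hcz, hgmc⟩ := ih K Q (by omega) (hQH.trans hHK) hQn hQhall z hz g hg hgz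
    -- Step B
    set C : Subgroup G := K ⊓ centralizer ({z} : Set G) with hCdef
    have hmemC : ∀ t : G, t ∈ C ↔ t ∈ K ∧ t * z = z * t := by
      intro t
      rw [hCdef, mem_inf, mem_centralizer_singleton_iff]
    have hPC : P ≤ C := fun u hu => (hmemC u).mpr ⟨hPK.le hu, hcomm u hu z hz⟩
    have hCK : C ≤ K := inf_le_left
    have hP'C : Helper30.cj m⁻¹ P ≤ C := by
      intro t ht
      rw [Helper30.mem_cj, inv_inv] at ht
      refine (hmemC t).mpr ⟨?_, ?_⟩
      · have h1 : t = m⁻¹ * (m * t * m⁻¹) * m := by group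
        rw [h1]
        exact mul_mem (mul_mem (inv_mem hmK) (hPK.le ht)) hmK
      · have h2 : m * z * m⁻¹ ∈ Q := by
          have := Helper30.conj_mem_cj (g := m) hz
          rwa [Helper30.cj_eq_of_mem_normalizer hmQ] at this
        have h3 := hcomm _ ht _ h2
        have h4 : m * (t * z) * m⁻¹ = m * (z * t) * m⁻¹ := by
          calc m * (t * z) * m⁻¹ = (m * t * m⁻¹) * (m * z * m⁻¹) := by group
            _ = (m * z * m⁻¹) * (m * t * m⁻¹) := h3
            _ = m * (z * t) * m⁻¹ := by group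
        exact mul_left_cancel (mul_right_cancel h4)
    have hS1 : IsSylowIn p P C := IsSylowIn_of_le hPK hPC hCK
    have hS2 : IsSylowIn p (Helper30.cj m⁻¹ P) C := by
      have h1 := hPK.cj m⁻¹
      rw [Helper30.cj_eq_of_mem (inv_mem hmK)] at h1
      exact IsSylowIn_of_le h1 hP'C hCK
    obtain ⟨d, hdC, hd⟩ := hS1.conj hS2
    -- Step C
    have hcC : c ∈ C := (hmemC c).mpr ⟨hcK, hcz⟩
    have hcy : c * y * c⁻¹ ∈ Helper30.cj d P := by
      rw [← hd, Helper30.mem_cj, inv_inv]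
      have : m * (c * y * c⁻¹) * m⁻¹ = g * y * g⁻¹ := by rw [hgmc]; group
      rw [this]
      exact hgy
    have hcy' : (d⁻¹ * c) * y * (d⁻¹ * c)⁻¹ ∈ P := by
      rw [Helper30.mem_cj] at hcy
      have : (d⁻¹ * c) * y * (d⁻¹ * c)⁻¹ = d⁻¹ * (c * y * c⁻¹) * d := by group
      rw [this]
      exact hcy
    obtain ⟨n₀, hn₀C, hn₀P, c₀, hc₀C, hc₀y, hdc⟩ := hSF C p P hS1 y hy (d⁻¹ * c)
      (mul_mem (inv_mem hdC) hcC) hcy'
    -- Step D
    have hc₀x : c₀ * x = x * c₀ := by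
      have h1 := ((hmemC c₀).mp hc₀C).2
      rw [hxyz]
      calc c₀ * (y * z) = (c₀ * y) * z := by group
        _ = y * (c₀ * z) := by rw [hc₀y]; group
        _ = y * z * c₀ := by rw [h1]; group
    have hg₁ : g = (m * d * n₀) * c₀ := by
      have : c = d * (n₀ * c₀) := by rw [← hdc]; group
      rw [hgmc, this]
      group
    have hg₁K : m * d * n₀ ∈ K := mul_mem (mul_mem hmK (hCK hdC)) (hCK hn₀C)
    have hg₁P : m * d * n₀ ∈ normalizer (P : Set G) := by
      apply Helper30.mem_normalizer_of_cj_eq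
      rw [Helper30.cj_mul, Helper30.cj_mul, Helper30.cj_eq_of_mem_normalizer hn₀P, ← hd, Helper30.cj_cj_inv]
    -- Step E
    set K₁ : Subgroup G := K ⊓ normalizer (P : Set G) with hK₁def
    have hK₁K : K₁ ≤ K := inf_le_left
    have hHK₁ : H ≤ K₁ := le_inf hHK (le_normalizer_opIn p H)
    have hK₁lt : Nat.card K₁ < Nat.card K := by
      rcases Nat.lt_or_ge (Nat.card K₁) (Nat.card K) with h | h
      · exact h
      · exfalso
        apply hpK
        have := Subgroup.eq_of_le_of_card_ge hK₁K h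
        rw [← this]
        exact inf_le_right
    have hHall₁ : (Nat.card H).Coprime (H.relIndex K₁) := by
      refine Nat.Coprime.coprime_dvd_right ?_ hHall
      rw [← relIndex_mul_relIndex _ _ _ hHK₁ hK₁K]
      exact Dvd.intro _ rfl
    have hg₁x : (m * d * n₀) * x * (m * d * n₀)⁻¹ ∈ H := by
      have : (m * d * n₀) * x * (m * d * n₀)⁻¹ = g * x * g⁻¹ := by
        rw [hg₁]
        calc (m * d * n₀) * x * (m * d * n₀)⁻¹
            = (m * d * n₀) * (x * c₀) * c₀⁻¹ * (m * d * n₀)⁻¹ := by group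
          _ = (m * d * n₀) * (c₀ * x) * c₀⁻¹ * (m * d * n₀)⁻¹ := by rw [hc₀x]
          _ = _ := by group
      rw [this]
      exact hgx
    obtain ⟨n, hnK₁, hnH, c₁, hc₁K₁, hc₁x, hg₁nc⟩ := ih K₁ H (by omega) hHK₁ hHn hHall₁ x hx
      (m * d * n₀) (mem_inf.mpr ⟨hg₁K, hg₁P⟩) hg₁x
    refine ⟨n, hK₁K hnK₁, hnH, c₁ * c₀, mul_mem (hK₁K hc₁K₁) (hCK hc₀C), ?_, ?_⟩
    · calc c₁ * c₀ * x = c₁ * (c₀ * x) := by group
        _ = (c₁ * x) * c₀ := by rw [hc₀x]; group
        _ = x * (c₁ * c₀) := by rw [hc₁x]; group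
    · rw [hg₁, hg₁nc]
      group

theorem SF_of_pLength_one [Finite G] {M : Subgroup G} (hsol : Group.IsSolvable ↥M)
    (hpl : ∀ (p : ℕ) [Fact p.Prime], Cfsg.PLengthLE p 1 ↥M) : SF M := by
  intro p _ P hP y hy g hg hgy
  obtain ⟨S, hS⟩ := hP.exists_sylow
  have hS' := sylow_eq_subgroupOf hS
  obtain ⟨n, hn, c, hc, hnc⟩ := (Cfsg.Agent.S1461.result p (hpl p) S).2.1
    ({⟨y, hP.le hy⟩} : Set M) ⟨g, hg⟩ (by
      intro t ht
      rw [Set.mem_singleton_iff] at ht
      subst ht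
      rw [hS']
      exact mem_subgroupOf.mpr hy) (by
      rintro _ ⟨t, ht, rfl⟩
      rw [Set.mem_singleton_iff] at ht
      subst ht
      rw [hS']
      exact mem_subgroupOf.mpr hgy)
  have h1 := coe_mem_normalizer_of_mem hS hn
  refine ⟨n, n.2, (mem_inf.mp h1).2, c, c.2, ?_, ?_⟩
  · have := mem_centralizer_singleton_iff.mp hc
    exact congrArg Subtype.val this
  · exact (congrArg Subtype.val hnc).symm

theorem SF_top [Finite G] (hG : Cfsg.IsMinSimpleOddOrder G) (hU : UT G) (hPL : T1410 G) :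
    SF (⊤ : Subgroup G) := by
  intro p _ P hP y hy g _ hgy
  by_cases hy1 : y = 1
  · subst hy1
    exact ⟨1, mem_top _, one_mem _, g, mem_top _, by simp, by simp⟩
  have hP1 : P ≠ ⊥ := fun h => hy1 (by rw [h, mem_bot] at hy; exact hy)
  obtain ⟨M, hM, hNM, hPM, hσ⟩ := exists_coatom_of_sylow hG hP hP1
  have hX : zpowers y ≤ P := (zpowers_le).mpr hy
  have hgX : Helper30.cj g (zpowers y) ≤ M := by
    have e : Helper30.cj g (zpowers y) = zpowers (g * y * g⁻¹) := MonoidHom.map_zpowers _ _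
    rw [e]
    exact (zpowers_le).mpr (hPM.le hgy)
  obtain ⟨m, hm, c, hc, rfl⟩ := ctl_of_mem_sigma hG hU hM hσ (hP.isPGroup.to_le hX)
    (zpowers_ne_bot.mpr hy1) (hX.trans hPM.le) g hgX
  have hcy : c * y = y * c := (mem_centralizer_iff.mp hc y (mem_zpowers y)).symm
  have hmy : m * y * m⁻¹ ∈ P := by
    have : m * y * m⁻¹ = (m * c) * y * (m * c)⁻¹ := by
      calc m * y * m⁻¹ = m * (y * c) * c⁻¹ * m⁻¹ := by group
        _ = m * (c * y) * c⁻¹ * m⁻¹ := by rw [hcy]
        _ = _ := by group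
    rw [this]
    exact hgy
  obtain ⟨n, -, hnP, c', -, hc'y, rfl⟩ := SF_of_pLength_one (solvable_of_ne_top hG hM.1)
    (fun q _ => hPL q M hM.1) p P hPM y hy m hm hmy
  refine ⟨n, mem_top _, hnP, c' * c, mem_top _, ?_, by group⟩
  calc c' * c * y = c' * (c * y) := by group
    _ = (c' * y) * c := by rw [hcy]; group
    _ = y * (c' * c) := by rw [hc'y]; group

theorem SF_all [Finite G] (hG : Cfsg.IsMinSimpleOddOrder G) (hU : UT G) (hPL : T1410 G)
    (K : Subgroup G) : SF K := by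
  by_cases hK : K = ⊤
  · rw [hK]
    exact SF_top hG hU hPL
  · exact SF_of_pLength_one (solvable_of_ne_top hG hK) (fun q _ => hPL q K hK)

/-- strong form of the text of S1384: `g ∈ N_G(H) C_G(x)`. -/
theorem nilHall_fusion [Finite G] (hG : Cfsg.IsMinSimpleOddOrder G) (hU : UT G) (hPL : T1410 G)
    {H : Subgroup G} (hHn : Group.IsNilpotent H) (hHall : (Nat.card H).Coprime H.index)
    {x : G} (hx : x ∈ H) {g : G} (hgx : g * x * g⁻¹ ∈ H) :
    ∃ n ∈ normalizer (H : Set G), ∃ c : G, c * x = x * c ∧ g = n * c := by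
  obtain ⟨n, -, hn, c, -, hc, e⟩ := nilHall_fusion_aux (SF_all hG hU hPL) _ ⊤ H le_rfl le_top hHn
    (by rwa [relIndex_top_right]) x hx g (mem_top _) hgx
  exact ⟨n, hn, c, hc, e⟩

/-- the text of S1384, conditional. -/
theorem S1384_of [Finite G] (hG : Cfsg.IsMinSimpleOddOrder G) (hU : UT G) (hPL : T1410 G)
    (H : Subgroup G) (hHn : Group.IsNilpotent H) (hHall : (Nat.card H).Coprime H.index) :
    ∀ x ∈ H, ∀ g : G, g * x * g⁻¹ ∈ H →
      ∃ n ∈ Subgroup.normalizer (H : Set G), n * x * n⁻¹ = g * x * g⁻¹ := by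
  intro x hx g hgx
  obtain ⟨n, hn, c, hc, rfl⟩ := nilHall_fusion hG hU hPL hHn hHall hx hgx
  refine ⟨n, hn, ?_⟩
  calc n * x * n⁻¹ = n * (x * c) * c⁻¹ * n⁻¹ := by group
    _ = n * (c * x) * c⁻¹ * n⁻¹ := by rw [hc]
    _ = _ := by group

end Cfsg.Agent.Lib.Helper40.BG16
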