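import Cfsg.Agent.Lib.Helper28.BG16b
import Cfsg.Agent.Lib.Helper40.BG16a
import Cfsg.Agent.Lib.Helper14.Sup
import Cfsg.Agent.Lib.Helper1.S4Sec

/-!
# B-G 15.1(e) (statement S1360): a subgroup `U₀ ≤ U` of the same exponent acting regularly on `M_σ`

Conditional on the texts of S1415, S1417-S1419, S1421, S1430.
-/

set_option autoImplicit false
set_option linter.style.haveILetI false

namespace Cfsg.Agent.Lib.Helper40.BG16

open Subgroup Cfsg.Agent.Lib.Helper28 Cfsg.Agent.Lib.Helper30 Cfsg.Agent.Lib.Helper2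
  Cfsg.Agent.Lib.Helper68 Cfsg.Agent.Lib.Helper40.BG12 Cfsg.Agent.Lib.Helper28.BG12
open scoped commutatorElement

universe u

variable {G : Type u} [Group G]

/-- `⟨u⟩` acts semiregularly on `M_σ` (tested on the elements of prime order). -/
def Good (M : Subgroup G) (u : G) : Prop :=
  ∀ w ∈ zpowers u, (orderOf w).Prime → Cfsg.sigmaCore M ⊓ centralizer ({w} : Set G) = ⊥

theorem good_one (M : Subgroup G) : Good M 1 := by
  intro w hw hp
  rw [zpowers_one_eq_bot, mem_bot] at hw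
  rw [hw, orderOf_one] at hp
  exact absurd hp Nat.not_prime_one

theorem centralizer_singleton_le_of_mem_zpowers {a w : G} (h : a ∈ zpowers w) :
    centralizer ({w} : Set G) ≤ centralizer ({a} : Set G) := by
  intro y hy
  rw [mem_centralizer_singleton_iff] at hy ⊢
  obtain ⟨j, rfl⟩ := mem_zpowers_iff.mp h
  exact (Commute.zpow_right (show Commute y w from hy) j)

theorem eq_bot_of_mem_zpowers {M : Subgroup G} {a w : G} (h : a ∈ zpowers w)
    (ha : Cfsg.sigmaCore M ⊓ centralizer ({a} : Set G) = ⊥) :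
    Cfsg.sigmaCore M ⊓ centralizer ({w} : Set G) = ⊥ :=
  le_bot_iff.mp (ha ▸ inf_le_inf_left _ (centralizer_singleton_le_of_mem_zpowers h))

theorem good_mul [Finite G] {M : Subgroup G} {u₁ u₂ : G} (hc : Commute u₁ u₂)
    (hcop : (orderOf u₁).Coprime (orderOf u₂)) (h₁ : Good M u₁) (h₂ : Good M u₂) :
    Good M (u₁ * u₂) := by
  intro w hw hp
  obtain ⟨k, rfl⟩ := mem_zpowers_iff.mp hw
  set w := (u₁ * u₂) ^ k with hwdef
  have hwk : w = u₁ ^ k * u₂ ^ k := hc.mul_zpow k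
  have hck : Commute (u₁ ^ k) (u₂ ^ k) := (hc.zpow_left k).zpow_right k
  have hsw : ∀ (x : G) (n : ℕ), (x ^ k) ^ n = (x ^ n) ^ k := fun x n => by
    rw [← zpow_natCast, ← zpow_natCast, zpow_comm]
  by_cases hr : orderOf w ∣ orderOf u₂
  · -- then `r ∤ o(u₁)`
    have hr1 : (orderOf w).Coprime (orderOf u₁) := by
      rw [Nat.Prime.coprime_iff_not_dvd hp]
      intro h
      exact hp.one_lt.ne' (Nat.eq_one_of_dvd_coprimes hcop h hr)
    have e : w ^ orderOf u₁ = (u₂ ^ orderOf u₁) ^ k := by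
      rw [hwk, hck.mul_pow, hsw, hsw, pow_orderOf_eq_one, one_zpow, one_mul]
    have hmem : w ^ orderOf u₁ ∈ zpowers u₂ := by
      rw [e]
      exact zpow_mem (pow_mem (mem_zpowers u₂) _) _
    have hord : orderOf (w ^ orderOf u₁) = orderOf w := hr1.orderOf_pow
    exact eq_bot_of_mem_zpowers (pow_mem (mem_zpowers w) _) (h₂ _ hmem (hord ▸ hp))
  · have hr2 : (orderOf w).Coprime (orderOf u₂) := (Nat.Prime.coprime_iff_not_dvd hp).mpr hr
    have e : w ^ orderOf u₂ = (u₁ ^ orderOf u₂) ^ k := by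
      rw [hwk, hck.mul_pow, hsw, hsw, pow_orderOf_eq_one, one_zpow, mul_one]
    have hmem : w ^ orderOf u₂ ∈ zpowers u₁ := by
      rw [e]
      exact zpow_mem (pow_mem (mem_zpowers u₁) _) _
    have hord : orderOf (w ^ orderOf u₂) = orderOf w := hr2.orderOf_pow
    exact eq_bot_of_mem_zpowers (pow_mem (mem_zpowers w) _) (h₁ _ hmem (hord ▸ hp))

theorem prime_eq_of_mem_zpowers {p n : ℕ} [hp : Fact p.Prime] {x w : G} (hx : orderOf x = p ^ n)
    (hw : w ∈ zpowers x) (hwp : (orderOf w).Prime) : orderOf w = p := by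
  have h1 : orderOf w ∣ p ^ n := hx ▸ orderOf_dvd_of_mem_zpowers hw
  exact (Nat.prime_dvd_prime_iff_eq hwp hp.out).mp (hwp.dvd_of_dvd_pow h1)

theorem good_ppow [Finite G] {M : Subgroup G} {p e : ℕ} [hp : Fact p.Prime] {x : G}
    (hx : orderOf x = p ^ (e + 1))
    (ha : Cfsg.sigmaCore M ⊓ centralizer ({x ^ p ^ e} : Set G) = ⊥) : Good M x := by
  intro w hw hwp
  have hwo : orderOf w = p := prime_eq_of_mem_zpowers hx hw hwp
  refine eq_bot_of_mem_zpowers ?_ ha
  refine mem_of_pow_eq_one_of_le_cyclic (C := zpowers x) (X := zpowers w) inferInstance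
    (zpowers_le.mpr hw) (pow_mem (mem_zpowers x) _) ?_
  rw [Nat.card_zpowers, hwo, ← pow_mul, ← pow_succ, ← hx, pow_orderOf_eq_one]

theorem good_of_rank_one [Finite G] (hG : Cfsg.IsMinSimpleOddOrder G) {M : Subgroup G} {p n : ℕ}
    [hp : Fact p.Prime] (hps : p ∉ Cfsg.sigma M) (hpk : p ∉ Cfsg.kappa M)
    (hr : Cfsg.PRankLE p 1 M) {x : G} (hxM : x ∈ M) (hx : orderOf x = p ^ n) : Good M x := by
  intro w hw hwp
  have hwo : orderOf w = p := prime_eq_of_mem_zpowers hx hw hwp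
  by_contra hne
  obtain ⟨⟨y, hy⟩, hy1⟩ := Subgroup.ne_bot_iff_exists_ne_one.mp hne
  apply hpk
  refine mem_kappa_of hG hps hr (zpowers_le.mpr hxM hw) hwo hy.1 (fun h => hy1 (Subtype.ext h)) ?_
  exact (mem_centralizer_singleton_iff.mp hy.2).symm

theorem isNilpotent_of_comm {U : Subgroup G} (hab : ∀ a ∈ U, ∀ b ∈ U, a * b = b * a) :
    Group.IsNilpotent U := by
  letI : CommGroup U :=
    { (inferInstance : Group U) with mul_comm := fun a b => Subtype.ext (hab a a.2 b b.2) }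
  infer_instance

theorem decomp_hall [Finite G] (hG : Cfsg.IsMinSimpleOddOrder G) {M K U : Subgroup G}
    (hM : IsCoatom M) (D : Cfsg.IsSigmaDecomposition M K U) :
    (Nat.card U).Coprime (U.relIndex M) := by
  rw [← card_compl' D.compl]
  refine Nat.coprime_of_dvd (fun q hq h1 h2 => ?_)
  rcases (isPiHallOf_K_sup hG hM D.hall).2.1 q hq h2 with h | h
  · exact not_kappa_of_decomp D hq h1 h
  · exact not_sigma_of_decomp hG hM D hq h1 h

theorem orderOf_pow_ppow {p e : ℕ} [hp : Fact p.Prime] {g : G} (hg : orderOf g = p ^ (e + 1)) :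
    orderOf (g ^ p ^ e) = p := by
  apply orderOf_eq_prime
  · rw [← pow_mul, ← pow_succ, ← hg, pow_orderOf_eq_one]
  · intro h
    have h1 := orderOf_dvd_of_pow_eq_one h
    rw [hg] at h1
    have := (Nat.pow_dvd_pow_iff_le_right hp.out.one_lt).mp h1
    omega

theorem exists_good_tau2 [Finite G] (hG : Cfsg.IsMinSimpleOddOrder G) (h17 : T1417 G)
    (h18 : T1418 G) (h19 : T1419 G) {M K U : Subgroup G} (hM : IsCoatom M)
    (D : Cfsg.IsSigmaDecomposition M K U) (hab : ∀ a ∈ U, ∀ b ∈ U, a * b = b * a) {p e : ℕ}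
    [hp : Fact p.Prime] (hτ : p ∈ Cfsg.tau2 M) (hpk : p ∉ Cfsg.kappa M) {g : G} (hgU : g ∈ U)
    (hg : orderOf g = p ^ (e + 1)) : ∃ u ∈ U, Good M u ∧ orderOf u = p ^ (e + 1) := by
  have hUM : U ≤ M := D.compl.1
  have hUn := isNilpotent_of_comm hab
  set S := opIn p U with hSdef
  have hSU : S ≤ U := opIn_le p U
  have hmemS : ∀ s ∈ U, ∀ n : ℕ, orderOf s = p ^ n → s ∈ S := by
    intro s hs n hn
    have h1 : zpowers s ≤ opIn p U := by
      refine le_opIn (zpowers_le.mpr hs) ?_ (IsPGroup.of_card (n := n) (by rw [Nat.card_zpowers, hn]))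
      intro u hu
      apply centralizer_le_normalizer' (zpowers s)
      rw [mem_centralizer_iff]
      intro h hh
      exact hab h (zpowers_le.mpr hs hh) u hu
    exact h1 (mem_zpowers s)
  have hgS : g ∈ S := hmemS g hgU _ hg
  have hS1 : S ≠ ⊥ := by
    intro h
    rw [h, mem_bot] at hgS
    rw [hgS, orderOf_one] at hg
    exact (Nat.one_lt_pow (Nat.succ_ne_zero e) hp.out.one_lt).ne hg
  have hSM : IsSylowIn p S M := opIn_isSylowIn hUM hUn (decomp_hall hG hM D) p hS1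
  obtain ⟨A', hA'M, hA'e, hA'c⟩ := exists_ea_sq_of_tau2 hτ
  obtain ⟨Q, hQ, hA'Q⟩ := exists_isSylowIn_ge hA'M (ea_isPGroup hA'e)
  obtain ⟨k, hk, hkQ⟩ := hQ.conj hSM
  set A := Helper30.cj k A' with hAdef
  have hAS : A ≤ S := by rw [hkQ]; exact Helper30.cj_mono k hA'Q
  have hAe : Cfsg.IsElementaryAbelian p A := ea_cj hA'e k
  have hAc : Nat.card A = p ^ 2 := by rw [hAdef, Helper30.card_cj, hA'c]
  have hAM : A ≤ M := hAS.trans hSM.le
  obtain ⟨P, hP⟩ := hSM.exists_sylow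
  obtain ⟨-, hb, -, -, -, A₁, hA₁A, hA₁c, hA₁f⟩ := h17 M hM p hτ A ⟨hAM, hAe, hAc⟩
  obtain ⟨hΩ, hNS⟩ := (hb P).2 (by rw [hP]; exact hAS)
  rw [hP] at hΩ hNS
  set a₀ := g ^ p ^ e with ha₀def
  by_cases hfix : Cfsg.sigmaCore M ⊓ centralizer ({a₀} : Set G) = ⊥
  · exact ⟨g, hgU, good_ppow hg hfix, hg⟩
  have ha₀o : orderOf a₀ = p := orderOf_pow_ppow hg
  have ha₀S : a₀ ∈ S := pow_mem hgS _
  have ha₀1 : a₀ ≠ 1 := by
    intro h
    rw [h, orderOf_one] at ha₀o
    exact hp.out.one_lt.ne ha₀o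
  have hXc : Nat.card (zpowers a₀) = p := by rw [Nat.card_zpowers, ha₀o]
  have hX1 : zpowers a₀ ≠ ⊥ := by rwa [Ne, zpowers_eq_bot]
  have hXp : IsPGroup p (zpowers a₀) := IsPGroup.of_card (n := 1) (by rw [hXc, pow_one])
  have hprime : ∀ r : ℕ, r.Prime → r ∣ Nat.card (zpowers a₀) → r = p := by
    intro r hr hrd
    rw [hXc] at hrd
    exact (Nat.prime_dvd_prime_iff_eq hr hp.out).mp hrd
  have huniq := uniq_of_sigma'_kappa' hG h17 h18 h19 hM (X := zpowers a₀)
    (zpowers_le.mpr (hSM.le ha₀S)) hX1 (fun r hr hrd => by rw [hprime r hr hrd]; exact hτ.2.1)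
    (fun r hr hrd => by rw [hprime r hr hrd]; exact hpk) (by
      obtain ⟨⟨y, hy⟩, hy1⟩ := Subgroup.ne_bot_iff_exists_ne_one.mp hfix
      intro hbot
      apply hy1
      have h2 : y ∈ Cfsg.sigmaCore M ⊓ centralizer ((zpowers a₀ : Subgroup G) : Set G) := by
        refine mem_inf.mpr ⟨hy.1, ?_⟩
        rw [mem_centralizer_iff]
        intro h hh
        have := centralizer_singleton_le_of_mem_zpowers hh hy.2
        exact (mem_centralizer_singleton_iff.mp this).symm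
      rw [hbot, mem_bot] at h2
      exact Subtype.ext h2)
  have hNX : normalizer ((zpowers a₀ : Subgroup G) : Set G) ≤ M := by
    obtain ⟨L, hL, hNL⟩ := exists_coatom_ge (normalizer_ne_top hG hX1 (isPGroup_ne_top hG hXp))
    have := huniq.2 L hL (fun c hc => hNL (centralizer_le_normalizer' (zpowers a₀) hc))
    rwa [this] at hNL
  obtain ⟨n, hnS, hnM⟩ := SetLike.not_le_iff_exists.mp hNS
  set g' := n * g * n⁻¹ with hg'def
  have hg'S : g' ∈ S := (mem_normalizer_iff.mp hnS g).mp hgS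
  set a₀' := n * a₀ * n⁻¹ with ha₀'def
  have ha₀'g : g' ^ p ^ e = a₀' := by rw [hg'def, conj_pow]
  have ha₀'S : a₀' ∈ S := (mem_normalizer_iff.mp hnS a₀).mp ha₀S
  have hnot : a₀' ∉ zpowers a₀ := by
    intro h
    apply hnM
    apply hNX
    apply mem_normalizer_of_cj_le'
    have e1 : Helper30.cj n (zpowers a₀) = zpowers (n * a₀ * n⁻¹) := MonoidHom.map_zpowers _ _
    rw [e1]
    exact zpowers_le.mpr h
  have ha₀p : a₀ ^ p = 1 := by rw [← ha₀o, pow_orderOf_eq_one]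
  have ha₀A : a₀ ∈ A := (hΩ a₀ ha₀S).mp ha₀p
  have ha₀'A : a₀' ∈ A := (hΩ a₀' ha₀'S).mp (by rw [ha₀'def, conj_pow, ha₀p]; group)
  have ha₀'o : orderOf a₀' = p := by
    rw [ha₀'def, ← ha₀o]
    exact orderOf_injective (MulAut.conj n).toMonoidHom (MulAut.conj n).injective a₀
  have hcomm : ∀ h ∈ zpowers a₀, ∀ k ∈ zpowers a₀', h * k = k * h := fun h hh k hk =>
    hab h (hSU (zpowers_le.mpr ha₀S hh)) k (hSU (zpowers_le.mpr ha₀'S hk))
  have hdisj : zpowers a₀' ⊓ zpowers a₀ = ⊥ := by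
    by_contra hne
    apply hnot
    -- the intersection is a nontrivial subgroup of a group of order p
    have h1 : Nat.card (zpowers a₀' ⊓ zpowers a₀ : Subgroup G) ∣ p := by
      have := card_dvd_of_le (inf_le_left : zpowers a₀' ⊓ zpowers a₀ ≤ zpowers a₀')
      rwa [Nat.card_zpowers, ha₀'o] at this
    rcases (Nat.dvd_prime hp.out).mp h1 with h | h
    · exact absurd ((card_eq_one).mp h) hne
    · have h2 : zpowers a₀' ⊓ zpowers a₀ = zpowers a₀' :=
        Subgroup.eq_of_le_of_card_ge inf_le_left (by rw [h, Nat.card_zpowers, ha₀'o])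
      exact (h2 ▸ inf_le_right : zpowers a₀' ≤ zpowers a₀) (mem_zpowers a₀')
  have hsup : zpowers a₀ ⊔ zpowers a₀' = A := by
    apply Subgroup.eq_of_le_of_card_ge (sup_le (zpowers_le.mpr ha₀A) (zpowers_le.mpr ha₀'A))
    rw [Cfsg.Agent.Lib.Helper1.card_sup_of_disjoint_le_normalizer ?_ hdisj, hAc, Nat.card_zpowers,
      Nat.card_zpowers, ha₀o, ha₀'o, sq]
    intro h hh
    apply centralizer_le_normalizer' (zpowers a₀')
    rw [mem_centralizer_iff]
    intro k hk
    exact (hcomm h hh k hk).symm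
  -- a generator of `A₁`
  have hA₁1 : A₁ ≠ ⊥ := by
    intro h
    rw [h, card_bot] at hA₁c
    exact hp.out.one_lt.ne hA₁c
  obtain ⟨⟨a₁, ha₁⟩, ha₁1'⟩ := Subgroup.ne_bot_iff_exists_ne_one.mp hA₁1
  have ha₁1 : a₁ ≠ 1 := fun h => ha₁1' (Subtype.ext h)
  have ha₁A : a₁ ∈ A := hA₁A ha₁
  have ha₁p : a₁ ^ p = 1 := (hΩ a₁ (hAS ha₁A)).mpr ha₁A
  have ha₁o : orderOf a₁ = p := orderOf_eq_prime ha₁p ha₁1
  have hA₁z : zpowers a₁ = A₁ :=
    Subgroup.eq_of_le_of_card_ge (zpowers_le.mpr ha₁) (by rw [hA₁c, Nat.card_zpowers, ha₁o])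
  have ha₁f : Cfsg.sigmaCore M ⊓ centralizer ({a₁} : Set G) = ⊥ := by
    rw [eq_bot_iff, ← hA₁f]
    refine inf_le_inf_left _ ?_
    intro y hy
    rw [mem_centralizer_iff]
    intro h hh
    rw [SetLike.mem_coe, ← hA₁z] at hh
    have := centralizer_singleton_le_of_mem_zpowers hh hy
    exact (mem_centralizer_singleton_iff.mp this).symm
  rw [← hsup] at ha₁A
  obtain ⟨h, hh, k', hk', ea⟩ := (Cfsg.Agent.Lib.Helper14.mem_sup_of_commute hcomm).mp ha₁A
  obtain ⟨i, rfl⟩ := mem_zpowers_iff.mp hh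
  obtain ⟨j, rfl⟩ := mem_zpowers_iff.mp hk'
  have hgg' : Commute g g' := hab g hgU g' (hSU hg'S)
  have hxU : g ^ i * g' ^ j ∈ U := mul_mem (zpow_mem hgU i) (zpow_mem (hSU hg'S) j)
  have hxpow : (g ^ i * g' ^ j) ^ p ^ e = a₁ := by
    have hc2 : Commute (g ^ i) (g' ^ j) := (hgg'.zpow_left i).zpow_right j
    have hsw : ∀ (x : G) (t : ℤ) (n : ℕ), (x ^ t) ^ n = (x ^ n) ^ t := fun x t n => by
      rw [← zpow_natCast, ← zpow_natCast, zpow_comm]
    rw [hc2.mul_pow, hsw, hsw, ha₀'g, ea]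
  have hxo : orderOf (g ^ i * g' ^ j) = p ^ (e + 1) := by
    apply orderOf_eq_prime_pow
    · rw [hxpow]; exact ha₁1
    · rw [pow_succ, pow_mul, hxpow, ha₁p]
  exact ⟨_, hxU, good_ppow hxo (by rw [hxpow]; exact ha₁f), hxo⟩

theorem exists_good_prime [Finite G] (hG : Cfsg.IsMinSimpleOddOrder G) (h17 : T1417 G)
    (h18 : T1418 G) (h19 : T1419 G) {M K U : Subgroup G} (hM : IsCoatom M)
    (D : Cfsg.IsSigmaDecomposition M K U) (hab : ∀ a ∈ U, ∀ b ∈ U, a * b = b * a) (p : ℕ)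
    [hp : Fact p.Prime] :
    ∃ u ∈ U, Good M u ∧ orderOf u = p ^ (Monoid.exponent U).factorization p := by
  obtain ⟨g, hg⟩ := hp.out.exists_orderOf_eq_pow_factorization_exponent U
  rcases Nat.eq_zero_or_pos ((Monoid.exponent U).factorization p) with h0 | h0
  · exact ⟨1, one_mem _, good_one M, by rw [h0, pow_zero, orderOf_one]⟩
  obtain ⟨e, he⟩ := Nat.exists_eq_succ_of_ne_zero h0.ne'
  rw [he] at hg ⊢
  have hg' : orderOf (g : G) = p ^ (e + 1) := by rw [Subgroup.orderOf_coe, hg]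
  have hpU : p ∣ Nat.card U := by
    have h1 : orderOf g ∣ Nat.card U := orderOf_dvd_natCard g
    rw [hg] at h1
    exact (dvd_pow_self p (Nat.succ_ne_zero e)).trans h1
  have hps := not_sigma_of_decomp hG hM D hp.out hpU
  have hpk := not_kappa_of_decomp D hp.out hpU
  by_cases hr : Cfsg.PRankLE p 1 M
  · exact ⟨g, g.2, good_of_rank_one hG hps hpk hr (D.compl.1 g.2) hg', hg'⟩
  · exact exists_good_tau2 hG h17 h18 h19 hM D hab
      ⟨hp.out, hps, pRankLE_two_of_not_mem_sigma hG hM hp.out hps, hr⟩ hpk g.2 hg'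

theorem exists_good_finset [Finite G] (hG : Cfsg.IsMinSimpleOddOrder G) (h17 : T1417 G)
    (h18 : T1418 G) (h19 : T1419 G) {M K U : Subgroup G} (hM : IsCoatom M)
    (D : Cfsg.IsSigmaDecomposition M K U) (hab : ∀ a ∈ U, ∀ b ∈ U, a * b = b * a)
    (s : Finset ℕ) (hs : ∀ p ∈ s, p.Prime) :
    ∃ u ∈ U, Good M u ∧ orderOf u = ∏ p ∈ s, p ^ (Monoid.exponent U).factorization p := by
  induction s using Finset.induction_on with
  | empty => exact ⟨1, one_mem _, good_one M, by simp⟩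
  | insert p s hps ih =>
    obtain ⟨u, hu, hgu, huo⟩ := ih (fun q hq => hs q (Finset.mem_insert_of_mem hq))
    haveI : Fact p.Prime := ⟨hs p (Finset.mem_insert_self p s)⟩
    obtain ⟨v, hv, hgv, hvo⟩ := exists_good_prime hG h17 h18 h19 hM D hab p
    have hcop : (orderOf v).Coprime (orderOf u) := by
      rw [hvo, huo]
      apply Nat.Coprime.prod_right
      intro q hq
      apply Nat.coprime_pow_primes _ _ (hs p (Finset.mem_insert_self p s))
        (hs q (Finset.mem_insert_of_mem hq))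
      rintro rfl
      exact hps hq
    have hc : Commute v u := hab v hv u hu
    refine ⟨v * u, mul_mem hv hu, good_mul hc hcop hgv hgu, ?_⟩
    rw [hc.orderOf_mul_eq_mul_orderOf_of_coprime hcop, Finset.prod_insert hps, hvo, huo]

/-- from a good generator to the conclusion of S1360. -/
theorem concl_of_good [Finite G] {M U : Subgroup G} {u : G} (hu : u ∈ U) (hg : Good M u)
    (ho : orderOf u = Monoid.exponent U) :
    ∃ U₀ : Subgroup G, U₀ ≤ U ∧ Monoid.exponent U₀ = Monoid.exponent U ∧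
      ∀ u ∈ U₀, u ∈ Cfsg.sigmaHat M → u = 1 := by
  refine ⟨zpowers u, zpowers_le.mpr hu, ?_, ?_⟩
  · rw [IsCyclic.exponent_eq_card, Nat.card_zpowers, ho]
  · rintro v hv ⟨-, y, hy, hy1, hvy⟩
    by_contra hv1
    have ho1 : orderOf v ≠ 1 := fun h => hv1 (orderOf_eq_one_iff.mp h)
    have hr := Nat.minFac_prime ho1
    have hw : orderOf (v ^ (orderOf v / (orderOf v).minFac)) = (orderOf v).minFac :=
      orderOf_pow_orderOf_div (orderOf_pos v).ne' (Nat.minFac_dvd _)
    have h1 := hg _ (pow_mem hv _) (hw ▸ hr)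
    have h2 : y ∈ Cfsg.sigmaCore M ⊓
        centralizer ({v ^ (orderOf v / (orderOf v).minFac)} : Set G) := by
      refine mem_inf.mpr ⟨hy, ?_⟩
      rw [mem_centralizer_singleton_iff]
      exact ((show Commute v y from hvy).pow_left _).symm
    rw [h1, mem_bot] at h2
    exact hy1 h2

/-- the text of S1360, conditional. -/
theorem S1360_of [Finite G] (hG : Cfsg.IsMinSimpleOddOrder G) (h15 : T1415 G) (h17 : T1417 G)
    (h18 : T1418 G) (h19 : T1419 G) (h21 : T1421 G) (h30 : T1430 G)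
    (M : Subgroup G) (hM : IsCoatom M) (K U : Subgroup G)
    (hKU : Cfsg.IsSigmaDecomposition M K U) :
    ∃ U₀ : Subgroup G, U₀ ≤ U ∧ Monoid.exponent U₀ = Monoid.exponent U ∧
      ∀ u ∈ U₀, u ∈ Cfsg.sigmaHat M → u = 1 := by
  by_cases hK1 : K = ⊥
  · have hE : Cfsg.IsComplIn U (Cfsg.sigmaCore M) M := by
      have := hKU.compl
      rwa [hK1, bot_sup_eq] at this
    obtain ⟨-, E₀, hE₀, hexp, hreg⟩ := h21 M hM U hE (by
      intro e he he1 hτ
      by_contra hne
      obtain ⟨⟨y, hy⟩, hy1⟩ := Subgroup.ne_bot_iff_exists_ne_one.mp hne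
      have ho1 : orderOf e ≠ 1 := fun h => he1 (orderOf_eq_one_iff.mp h)
      have hr := Nat.minFac_prime ho1
      haveI : Fact (orderOf e).minFac.Prime := ⟨hr⟩
      have hw : orderOf (e ^ (orderOf e / (orderOf e).minFac)) = (orderOf e).minFac :=
        orderOf_pow_orderOf_div (orderOf_pos e).ne' (Nat.minFac_dvd _)
      have hrU : (orderOf e).minFac ∣ Nat.card U :=
        (Nat.minFac_dvd _).trans (Subgroup.orderOf_dvd_natCard U he)
      apply not_kappa_of_decomp hKU hr hrU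
      have hrk : Cfsg.PRankLE (orderOf e).minFac 1 M := by
        rcases hτ _ hr (Nat.minFac_dvd _) with h | h
        · exact h.2.2.2.2
        · exact h.2.2.2
      refine mem_kappa_of hG (not_sigma_of_decomp hG hM hKU hr hrU) hrk
        (pow_mem (hE.1 he) _) hw hy.1 (fun h => hy1 (Subtype.ext h)) ?_
      exact ((show Commute y e from mem_centralizer_singleton_iff.mp hy.2).pow_right _).symm)
    refine ⟨E₀, hE₀, hexp, ?_⟩
    rintro v hv ⟨-, y, hy, hy1, hvy⟩
    by_contra hv1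
    have h2 : y ∈ Cfsg.sigmaCore M ⊓ centralizer ({v} : Set G) :=
      mem_inf.mpr ⟨hy, mem_centralizer_singleton_iff.mpr hvy.symm⟩
    rw [hreg v hv hv1, mem_bot] at h2
    exact hy1 h2
  · have hab := (decomp_good hG h15 h30 hM hKU hK1).1
    obtain ⟨u, hu, hgu, huo⟩ := exists_good_finset hG h17 h18 h19 hM hKU hab
      (Monoid.exponent U).primeFactors (fun p hp => Nat.prime_of_mem_primeFactors hp)
    refine concl_of_good hu hgu ?_
    rw [huo]
    exact Nat.prod_factorization_pow_eq_self Monoid.exponent_ne_zero_of_finite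

end Cfsg.Agent.Lib.Helper40.BG16
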