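import Cfsg.Agent.Lib.Helper40.BG12a

/-!
Rung ZG of helper2's ladder BG76 (S1376).
-/

set_option autoImplicit false

namespace Cfsg.Agent.Lib.Helper40.BG76

variable {G : Type*} [Group G] [Finite G]

open Subgroup

theorem isCyclic_of_comm_of_rank_one {M E : Subgroup G} (hEM : E ≤ M) (hodd : Odd (Nat.card E))
    (hcomm : ∀ a ∈ E, ∀ b ∈ E, a * b = b * a)
    (hr : ∀ s : ℕ, s.Prime → s ∣ Nat.card E → Cfsg.PRankLE s 1 ↥M) : IsCyclic E := by
  have hZ : IsZGroup ↥E := by
    refine ⟨fun p hp P => ?_⟩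
    have := Fact.mk hp
    by_cases hd : p ∣ Nat.card E
    · have hp2 : p ≠ 2 := Cfsg.Agent.Lib.Helper40.BG12.ne_two_of_dvd_odd hodd hd
      exact Cfsg.Agent.Lib.Helper40.BG12.isCyclic_of_isPGroup_rank_one hp2
        (Cfsg.Agent.Lib.Helper40.BG12.pRankLE_of_injective (Subgroup.inclusion hEM)
          (Subgroup.inclusion_injective hEM) (hr p hp hd)) _ P.2
    · have h1 : Nat.card ↥(P : Subgroup ↥E) = 1 := by
        obtain ⟨n, hn⟩ := IsPGroup.iff_card.1 P.2
        rcases Nat.eq_zero_or_pos n with h0 | h0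
        · rw [hn, h0, pow_zero]
        · exact absurd ((hn ▸ dvd_pow_self p h0.ne' : p ∣ Nat.card ↥(P : Subgroup ↥E)).trans
            (Subgroup.card_subgroup_dvd_card _)) hd
      have h2 : (P : Subgroup ↥E) = ⊥ := (Subgroup.card_eq_one).mp h1
      rw [h2]
      infer_instance
  have hN : Group.IsNilpotent ↥E := by
    let _ : CommGroup ↥E :=
      { (inferInstance : Group ↥E) with
        mul_comm := fun a b => Subtype.ext (hcomm a a.2 b b.2) }
    infer_instance
  infer_instance

end Cfsg.Agent.Lib.Helper40.BG76
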