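import Cfsg.Agent.Lib.Helper28.BG16b
import Cfsg.Agent.Lib.Helper24.BG14D
import Cfsg.Agent.Lib.Helper62.ThompsonJ

/-!
# `K*` is cyclic, nontrivial, inside `M_F`, and `M_F` is not cyclic (statement S1364)

Conditional on (parts of) the texts of S1354, S1366, S1368, S1431, S1437.
-/

set_option autoImplicit false
set_option linter.style.haveILetI false

namespace Cfsg.Agent.Lib.Helper40.BG16

open Subgroup Cfsg.Agent.Lib.Helper28 Cfsg.Agent.Lib.Helper30 Cfsg.Agent.Lib.Helper2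
  Cfsg.Agent.Lib.Helper68 Cfsg.Agent.Lib.Helper28.BG12
open scoped commutatorElement

universe u

variable {G : Type u} [Group G]

theorem le_normalizer_fittingHallOf (M : Subgroup G) :
    M ≤ normalizer (Cfsg.fittingHallOf M : Set G) :=
  Cfsg.Agent.Lib.Helper28.le_normalizer_map_subtype (Cfsg.fittingHall_normal _)

/-- a subgroup of a cyclic subgroup `C` is normalized by everything normalizing `C`. -/
theorem le_normalizer_of_le_cyclic [Finite G] {C X M : Subgroup G} (hc : IsCyclic C) (hXC : X ≤ C)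
    (hM : M ≤ normalizer (C : Set G)) : M ≤ normalizer (X : Set G) := by
  intro k hk
  apply mem_normalizer_of_cj_le'
  intro y hy
  have hyC : y ∈ C := by
    have := Helper30.cj_mono k hXC hy
    rwa [Helper30.cj_eq_of_mem_normalizer (hM hk)] at this
  refine mem_of_pow_eq_one_of_le_cyclic hc hXC hyC ?_
  have h1 : (⟨y, hy⟩ : Helper30.cj k X) ^ Nat.card (Helper30.cj k X) = 1 := pow_card_eq_one'
  rw [Helper30.card_cj] at h1
  exact congrArg Subtype.val h1

/-- the text of S1364 from pieces of the texts of S1354, S1368, S1431, S1437. -/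
theorem S1364_of [Finite G] (hG : Cfsg.IsMinSimpleOddOrder G)
    (M : Subgroup G) (hM : IsCoatom M) (K : Subgroup G)
    (hK : Cfsg.IsPiHallOf (Cfsg.kappa M) K M)
    (h1 : IsCyclic ↥(K ⊔ (Cfsg.sigmaCore M ⊓ centralizer (K : Set G))))
    (h2 : Cfsg.sigmaCore M ⊓ centralizer (K : Set G) ≠ ⊥)
    (h31 : ∀ (p : ℕ), p.Prime → p ∣ Nat.card ↥(Cfsg.sigmaCore M ⊓ centralizer (K : Set G)) →
      ∀ S : Sylow p ↥(Cfsg.sigmaCore M),
        ¬ (S : Subgroup ↥(Cfsg.sigmaCore M)).map (Cfsg.sigmaCore M).subtype ≤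
          (Cfsg.sigmaCore M ⊓ centralizer (K : Set G)))
    (h37 : Cfsg.fittingHallOf M ≠ Cfsg.sigmaCore M →
      (Nat.card ↥(Cfsg.sigmaCore M ⊓ centralizer (K : Set G))).Prime ∧
      ∃ Q : Subgroup G, Q ≤ Cfsg.fittingHallOf M ∧ M ≤ normalizer (Q : Set G) ∧
        IsPGroup (Nat.card ↥(Cfsg.sigmaCore M ⊓ centralizer (K : Set G))) Q ∧
        ¬ Nat.card ↥(Cfsg.sigmaCore M ⊓ centralizer (K : Set G)) ∣ Q.relIndex (Cfsg.sigmaCore M)) :
    IsCyclic ↥(Cfsg.sigmaCore M ⊓ centralizer (K : Set G)) ∧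
      (Cfsg.sigmaCore M ⊓ centralizer (K : Set G)) ≠ ⊥ ∧
      (Cfsg.sigmaCore M ⊓ centralizer (K : Set G)) ≤ Cfsg.fittingHallOf M ∧
      ¬ IsCyclic (Cfsg.fittingHallOf M) := by
  set Ks := Cfsg.sigmaCore M ⊓ centralizer (K : Set G) with hKs
  have hS := sigmaCore_hall hG hM
  have hFσ : Cfsg.fittingHallOf M ≤ Cfsg.sigmaCore M :=
    Cfsg.Agent.Lib.Helper24.BG14.fittingHallOf_le_sigmaCore hG hM
  have claim : ∀ (p : ℕ) [Fact p.Prime], p ∣ Nat.card Ks → ∀ S' : Subgroup G,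
      IsSylowIn p S' (Cfsg.sigmaCore M) → S' ≤ Cfsg.fittingHallOf M := by
    intro p hp hd S' hS'
    by_cases hF : Cfsg.fittingHallOf M = Cfsg.sigmaCore M
    · rw [hF]; exact hS'.le
    · obtain ⟨hq, Q, hQF, hQn, hQp, hQd⟩ := h37 hF
      have e : p = Nat.card Ks := (Nat.prime_dvd_prime_iff_eq hp.out hq).mp hd
      rw [← e] at hQp hQd
      have hQS : IsSylowIn p Q (Cfsg.sigmaCore M) := ⟨hQF.trans hFσ, hQp, hQd⟩
      obtain ⟨k, hk, rfl⟩ := hQS.conj hS'
      rw [Helper30.cj_eq_of_mem_normalizer (hQn (hS.1 hk))]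
      exact hQF
  have hcard : Nat.card Ks ≠ 1 := fun h => h2 ((card_eq_one (H := Ks)).mp h)
  refine ⟨Subgroup.isCyclic_of_le (le_sup_right : Ks ≤ K ⊔ Ks), h2, ?_, ?_⟩
  · by_cases hF : Cfsg.fittingHallOf M = Cfsg.sigmaCore M
    · rw [hF]; exact inf_le_left
    · obtain ⟨hq, -⟩ := h37 hF
      haveI : Fact (Nat.card Ks).Prime := ⟨hq⟩
      obtain ⟨S', hS', hle⟩ := exists_isSylowIn_ge (p := Nat.card Ks) (U := Ks)
        (K := Cfsg.sigmaCore M) inf_le_left (IsPGroup.of_card (n := 1) (by rw [pow_one]))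
      exact hle.trans (claim _ dvd_rfl S' hS')
  · intro hc
    have hpp : Fact (Nat.card Ks).minFac.Prime := ⟨Nat.minFac_prime hcard⟩
    set p := (Nat.card Ks).minFac with hp
    have hd : p ∣ Nat.card Ks := Nat.minFac_dvd _
    obtain ⟨S⟩ : Nonempty (Sylow p ↥(Cfsg.sigmaCore M)) := inferInstance
    have hS' := isSylowIn_of_sylow S
    set S' := (S : Subgroup ↥(Cfsg.sigmaCore M)).map (Cfsg.sigmaCore M).subtype with hS'def
    have hS'F : S' ≤ Cfsg.fittingHallOf M := claim p hd S' hS'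
    have hS'c : IsCyclic S' := Subgroup.isCyclic_of_le hS'F
    have hMN : M ≤ normalizer (S' : Set G) :=
      le_normalizer_of_le_cyclic hc hS'F (le_normalizer_fittingHallOf M)
    obtain ⟨x, hx⟩ := exists_prime_orderOf_dvd_card' (G := Ks) p hd
    have hxo : orderOf (x : G) = p := by rw [Subgroup.orderOf_coe, hx]
    have hxσ : (x : G) ∈ Cfsg.sigmaCore M := x.2.1
    have hxC : (x : G) ∈ centralizer (K : Set G) := x.2.2
    have hxS' : (x : G) ∈ S' := by
      obtain ⟨S'', hS'', hle⟩ := exists_isSylowIn_ge (p := p) (U := zpowers (x : G))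
        (K := Cfsg.sigmaCore M) (zpowers_le.mpr hxσ)
        (IsPGroup.of_card (n := 1) (by rw [Nat.card_zpowers, hxo, pow_one]))
      obtain ⟨m, hm, rfl⟩ := hS'.conj hS''
      rw [Helper30.cj_eq_of_mem_normalizer (hMN (hS.1 hm))] at hle
      exact hle (mem_zpowers _)
    have hpK : ¬ p ∣ Nat.card K := by
      intro h
      exact (hK.2.1 p hpp.out h).2.2.1
        (hS.2.1 p hpp.out (hd.trans (card_dvd_of_le (inf_le_left : Ks ≤ Cfsg.sigmaCore M))))
    apply h31 p hpp.out hd S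
    intro v hv
    refine mem_inf.mpr ⟨hS'.le hv, ?_⟩
    rw [mem_centralizer_iff]
    intro k hk
    refine Cfsg.Agent.Lib.Helper62.centralizes_of_centralizes_omega hS'.isPGroup
      (fun a ha b hb => congrArg Subtype.val (comm_of_isCyclic hS'c ⟨a, ha⟩ ⟨b, hb⟩))
      (fun w hw => (mem_normalizer_iff.mp (hMN (hK.1 hk)) w).mp hw) ?_ ?_ v hv
    · refine Nat.Coprime.symm ((Nat.Prime.coprime_iff_not_dvd hpp.out).mpr ?_)
      exact fun h => hpK (h.trans (Subgroup.orderOf_dvd_natCard K hk))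
    · intro w hw hwp
      have hwx : w ∈ zpowers (x : G) := mem_of_pow_eq_one_of_le_cyclic hS'c
        (zpowers_le.mpr hxS') hw (by rw [Nat.card_zpowers, hxo]; exact hwp)
      obtain ⟨j, rfl⟩ := mem_zpowers_iff.mp hwx
      exact (Commute.zpow_right (show Commute k (x : G) from mem_centralizer_iff.mp hxC k hk) j)

end Cfsg.Agent.Lib.Helper40.BG16
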