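import Cfsg.Agent.S1456
import Cfsg.Agent.Lib.Helper40.BG12a

/-!
Rung AB of helper2's ladder BG76 (S1376): `M' ≤ F(M)` from S1456.
-/

set_option autoImplicit false

namespace Cfsg.Agent.Lib.Helper40.BG76

variable {G : Type*} [Group G] [Finite G]

open Subgroup

theorem commutator_le_fittingOf {M H U : Subgroup G} (hsol : Group.IsSolvable M)
    (hodd : Odd (Nat.card M)) (hH : H ≤ M) (hHn : M ≤ normalizer (H : Set G))
    (hnil : Group.IsNilpotent H) {x : G} {r : ℕ} [Fact r.Prime] (hx : x ∈ H) (hxr : x ^ r = 1)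
    (hC : M ⊓ centralizer ({x} : Set G) ≤ U) (hrank : ∀ q : ℕ, q.Prime → Cfsg.PRankLE q 2 ↥U) :
    ⁅M, M⁆ ≤ Cfsg.fittingOf M := by
  have := hsol
  set E : Subgroup ↥M := (zpowers x).subgroupOf M with hEdef
  have hmemE : ∀ y : ↥M, y ∈ E ↔ (y : G) ∈ zpowers x := fun y => mem_subgroupOf
  have hHnorm : (H.subgroupOf M).Normal := by
    refine ⟨fun n hn g => ?_⟩
    rw [mem_subgroupOf] at hn ⊢
    have := (mem_normalizer_iff.mp (hHn g.2) (n : G)).mp hn
    simpa using this
  have hHnil : Group.IsNilpotent ↥(H.subgroupOf M) :=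
    (Group.isNilpotent_congr (subgroupOfEquivOfLe hH)).mpr hnil
  have hHF : H.subgroupOf M ≤ Cfsg.fittingSubgroup ↥M := le_sSup ⟨hHnorm, hHnil⟩
  have hE : E ≤ Cfsg.fittingSubgroup ↥M := by
    refine le_trans ?_ hHF
    intro y hy
    rw [hmemE] at hy
    rw [mem_subgroupOf]
    exact (zpowers_le.mpr hx) hy
  have hEe : Cfsg.IsElementaryAbelian r E := by
    refine ⟨⟨⟨?_⟩⟩, ?_⟩
    · rintro ⟨a, ha⟩ ⟨b, hb⟩
      rw [hmemE] at ha hb
      obtain ⟨i, hi⟩ := mem_zpowers_iff.mp ha
      obtain ⟨j, hj⟩ := mem_zpowers_iff.mp hb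
      apply Subtype.ext
      apply Subtype.ext
      show (a : G) * (b : G) = (b : G) * (a : G)
      rw [← hi, ← hj, ← zpow_add, ← zpow_add, add_comm]
    · intro a ha
      rw [hmemE] at ha
      obtain ⟨i, hi⟩ := mem_zpowers_iff.mp ha
      apply Subtype.ext
      show (a : G) ^ r = 1
      rw [← hi, ← zpow_natCast, ← zpow_mul, mul_comm, zpow_mul, zpow_natCast, hxr, one_zpow]
  have hr : Cfsg.RankLE 2 ↥(Cfsg.fittingSubgroup ↥M ⊓ centralizer (E : Set ↥M)) := by
    intro q hq
    have hmem : ∀ y : ↥(Cfsg.fittingSubgroup ↥M ⊓ centralizer (E : Set ↥M)),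
        ((y : ↥M) : G) ∈ U := by
      intro y
      apply hC
      refine mem_inf.mpr ⟨(y : ↥M).2, ?_⟩
      rw [mem_centralizer_iff]
      intro z hz
      rw [Set.mem_singleton_iff] at hz
      subst hz
      have h1 := (mem_centralizer_iff.mp y.2.2) ⟨z, hH hx⟩
        ((hmemE _).mpr (mem_zpowers z))
      exact congrArg Subtype.val h1
    let f : ↥(Cfsg.fittingSubgroup ↥M ⊓ centralizer (E : Set ↥M)) →* ↥U :=
      { toFun := fun y => ⟨((y : ↥M) : G), hmem y⟩
        map_one' := rfl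
        map_mul' := fun _ _ => rfl }
    have hf : Function.Injective f := by
      intro a b hab
      apply Subtype.ext
      apply Subtype.ext
      exact congrArg (fun z : ↥U => (z : G)) hab
    exact Cfsg.Agent.Lib.Helper40.BG12.pRankLE_of_injective f hf (hrank q hq)
  have key := Cfsg.Agent.S1456.result (G := ↥M) hodd r E hE hEe hr
  have h1 : ⁅M, M⁆ = (commutator ↥M).map M.subtype := by
    rw [_root_.commutator_def, map_commutator, ← MonoidHom.range_eq_map, range_subtype]
  rw [h1]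
  exact Subgroup.map_mono key

end Cfsg.Agent.Lib.Helper40.BG76
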