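import Cfsg.Agent.Lib.Helper40.BG16a

/-!
Rung Z of helper2's ladder BG76 (S1376).
-/

set_option autoImplicit false

namespace Cfsg.Agent.Lib.Helper40.BG76

variable {G : Type*} [Group G] [Finite G]

open Subgroup Cfsg.Agent.Lib.Helper28 Cfsg.Agent.Lib.Helper40.BG16

theorem le_centralizer_of_nilpotent {X : Subgroup G} (hX : Group.IsNilpotent X) {s : ℕ}
    [Fact s.Prime]
    (hab : ∀ P : Subgroup G, IsPGroup s P → ∀ a ∈ P, ∀ b ∈ P, a * b = b * a) {a : G} (ha : a ∈ X)
    (hs : a ^ s = 1) : X ≤ centralizer ({a} : Set G) := by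
  -- `a` lies in `O_s(X)`
  have haO : a ∈ opIn s X := by
    obtain ⟨u, hu, v, hv, e⟩ := nil_mul hX s a ha
    have hc : Commute u v := nil_comm X s u hu v hv
    have h1 : u ^ s * v ^ s = 1 := by rw [← hc.mul_pow, ← e, hs]
    have h2 : v ^ s ∈ opIn s X ⊓ opPrimeIn s X := by
      refine mem_inf.mpr ⟨?_, (opPrimeIn s X).pow_mem hv s⟩
      have : v ^ s = (u ^ s)⁻¹ := (eq_inv_of_mul_eq_one_right h1)
      rw [this]
      exact (opIn s X).inv_mem ((opIn s X).pow_mem hu s)
    have h3 : opIn s X ⊓ opPrimeIn s X = ⊥ :=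
      (Subgroup.disjoint_of_coprime_natCard (card_coprime_opIn_opPrimeIn X s)).eq_bot
    rw [h3, mem_bot] at h2
    have h4 : orderOf v ∣ s := orderOf_dvd_of_pow_eq_one h2
    have h5 : orderOf v ∣ Nat.card (opPrimeIn s X) := Subgroup.orderOf_dvd_natCard _ hv
    have h6 : orderOf v = 1 := Nat.eq_one_of_dvd_coprimes (opPrimeIn_coprime s X) h5 h4
    rw [orderOf_eq_one_iff] at h6
    rw [e, h6, mul_one]
    exact hu
  intro y hy
  rw [mem_centralizer_iff]
  intro z hz
  rw [Set.mem_singleton_iff] at hz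
  subst hz
  obtain ⟨u, hu, v, hv, rfl⟩ := nil_mul hX s y hy
  have h1 : z * u = u * z := hab _ (opIn_isPGroup s X) z haO u hu
  have h2 : z * v = v * z := nil_comm X s z haO v hv
  calc z * (u * v) = (z * u) * v := by group
    _ = u * (z * v) := by rw [h1]; group
    _ = u * v * z := by rw [h2]; group

end Cfsg.Agent.Lib.Helper40.BG76
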