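import Cfsg.Agent.Lib.Helper86.KLMain
import Cfsg.Agent.Lib.Helper40.TransferRed2

set_option autoImplicit false

/-! Control of transfer in saturated fusion systems: the class `Cl T`, the constrained case. -/

namespace Cfsg.Agent.Lib.Helper40.FT

open Cfsg Cfsg.FusionSystem Cfsg.Agent.Lib.Helper87 Cfsg.Agent.Lib.Helper86.Model
  Cfsg.Agent.Lib.Helper86.SecFree Cfsg.Agent.Lib.Helper86.KL
open scoped commutatorElement

universe u

/-- the maps `f` on `P` with `x⁻¹ f(x) ∈ T`. -/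
def Cl {Ω : Type*} [Group Ω] (T P : Subgroup Ω) (f : Ω → Ω) : Prop := ∀ x ∈ P, x⁻¹ * f x ∈ T

theorem morClass_cl {Ω : Type*} [Group Ω] {S : Subgroup Ω} (F : FusionSystem S) (T : Subgroup Ω) :
    MorClass F (Cl T) where
  congr := fun h e x hx => by rw [← e x hx]; exact h x hx
  mono := fun _ h hR x hx => h x (hR hx)
  comp := by
    intro P Q f g _ _ h h' hPQ x hx
    have : x⁻¹ * (g ∘ f) x = (x⁻¹ * f x) * ((f x)⁻¹ * g (f x)) := by
      show x⁻¹ * g (f x) = _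
      group
    rw [this]
    exact T.mul_mem (h x hx) (h' _ (hPQ x hx))
  inv := by
    intro P Q f g hf _ hgf h y hy
    obtain ⟨x, hx, rfl⟩ := (hf.2 y).1 hy
    rw [hgf x hx]
    have : (f x)⁻¹ * x = (x⁻¹ * f x)⁻¹ := by group
    rw [this]
    exact T.inv_mem (h x hx)

theorem focal_le_iff {Ω : Type*} [Group Ω] {S : Subgroup Ω} (F : FusionSystem S) (T : Subgroup Ω) :
    F.focalSubgroup ≤ T ↔ ∀ P f, Mor F P f → Cl T P f := by
  unfold focalSubgroup
  rw [Subgroup.closure_le]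
  constructor
  · rintro h P f ⟨φ, hφ, e⟩ x hx
    apply h
    refine ⟨P, φ, ⟨x, hx⟩, hφ, ?_⟩
    rw [e]
  · rintro h _ ⟨P, φ, x, hφ, rfl⟩
    have := h P (ext φ) (Mor.of_hom hφ) x x.2
    rwa [ext_coe] at this

theorem mem_focal {Ω : Type*} [Group Ω] {S : Subgroup Ω} {F : FusionSystem S} {P : Subgroup Ω}
    {f : Ω → Ω} (h : Mor F P f) {x : Ω} (hx : x ∈ P) : x⁻¹ * f x ∈ F.focalSubgroup :=
  (focal_le_iff F _).1 le_rfl P f h x hx

theorem focal_le {Ω : Type*} [Group Ω] {S : Subgroup Ω} (F : FusionSystem S) :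
    F.focalSubgroup ≤ S :=
  (focal_le_iff F S).2 (fun _ _ h _ hx => S.mul_mem (S.inv_mem (h.le hx)) (h.mem hx))

theorem commutator_le_of_cl {Ω : Type*} [Group Ω] {S T : Subgroup Ω}
    (h : ∀ s ∈ S, Cl T S (fun x => s * x * s⁻¹)) : ⁅S, S⁆ ≤ T := by
  rw [Subgroup.commutator_le]
  intro a ha b hb
  have := h b hb a⁻¹ (S.inv_mem ha)
  have e : ⁅a, b⁆ = a⁻¹⁻¹ * (b * a⁻¹ * b⁻¹) := by
    rw [commutatorElement_def]; group
  rw [e]
  exact this

/-- focal subgroup theorem relative to a subgroup containing a Sylow subgroup. -/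
theorem rel_focal {p : ℕ} [Fact p.Prime] {X : Type*} [Group X] [Finite X] (S : Sylow p X)
    (H : Subgroup X) (hSH : (S : Subgroup X) ≤ H) (D : Subgroup X)
    (h : ∀ x ∈ (S : Subgroup X), ∀ u ∈ H, u * x * u⁻¹ ∈ (S : Subgroup X) → ⁅x, u⁆ ∈ D) :
    (S : Subgroup X) ⊓ ⁅H, H⁆ ≤ D := by
  have h1 := sylow_inf_commutator_le_of_focal (S.subtype hSH) (D.subgroupOf H) (by
    intro x hx u hu
    exact h x hx u u.2 hu)
  intro g hg
  have hgH : g ∈ H := hSH hg.1
  have h2 : (⟨g, hgH⟩ : H) ∈ commutator H := by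
    have h3 : g ∈ (commutator H).map H.subtype := by
      rw [Subgroup.map_subtype_commutator]
      exact hg.2
    obtain ⟨y, hy, e⟩ := h3
    have : y = ⟨g, hgH⟩ := Subtype.ext e
    rwa [this] at hy
  exact h1 ⟨hg.1, h2⟩

/-- group-level control of transfer, for constrained groups. -/
def GT (p : ℕ) (W : ∀ (Q : Type u) [Group Q], Subgroup Q) : Prop :=
  ∀ (G : Type u) [Group G] [Finite G] (P : Sylow p G),
    Subgroup.centralizer ((Cfsg.pCore p G : Subgroup G) : Set G) ≤ Cfsg.pCore p G →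
    (P : Subgroup G) ⊓ commutator G ≤
      ⁅Subgroup.normalizer (WS W (P : Subgroup G) : Set G),
        Subgroup.normalizer (WS W (P : Subgroup G) : Set G)⁆

variable {p : ℕ} {W : ∀ (Q : Type u) [Group Q], Subgroup Q}

/-- The constrained case. -/
theorem cl_of_setup [Fact p.Prime] (hW : PFun p W) (hG : GT p W) {Ω : Type u} [Group Ω]
    {S : Subgroup Ω} [Finite S] {F : FusionSystem S} {Q : Subgroup Ω} (hset : Setup p F Q)
    (T : Subgroup Ω) (hT : ∀ P f, InN F (WS W S) P f → Cl T P f) :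
    ∀ P f, Mor F P f → Cl T P f := by
  obtain ⟨G, _, ι, hM⟩ := hset.exists_model
  obtain ⟨hfin, hreal, ⟨Sy, hSy⟩, hcen⟩ := hM
  have hιinj : Function.Injective ι := hreal.1
  have hS := hset.hS
  have key := hW.WS_fun (X := S) (Y := (Sy : Subgroup G)) hS (tf ι)
      (fun x hx y hy => tf_mul ι hx hy) (fun x hx y hy e => tf_inj hιinj hx hy e)
      (fun y => by
        rw [hSy]
        constructor
        · rintro ⟨s, rfl⟩
          exact ⟨s, s.2, tf_coe ι s⟩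
        · rintro ⟨x, hx, rfl⟩
          exact tf_mem_range ι hx)
  set H := Subgroup.normalizer (WS W (Sy : Subgroup G) : Set G) with hH
  have hSyH : (Sy : Subgroup G) ≤ H :=
    Subgroup.le_normalizer.trans (hW.normalizer_le Sy.2)
  have hNS : normalizerIn S (WS W S) = S :=
    le_antisymm (normalizerIn_le S _)
      ((le_normalizerIn le_rfl).trans (hW.normalizerIn_le hS le_rfl))
  set D : Subgroup G := (T.subgroupOf S).map ι with hD
  have hmemD : ∀ x ∈ S, x ∈ T → tf ι x ∈ D := by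
    intro x hx hxT
    rw [tf_apply ι hx]
    exact ⟨⟨x, hx⟩, hxT, rfl⟩
  have hA : (Sy : Subgroup G) ⊓ ⁅H, H⁆ ≤ D := by
    refine rel_focal Sy H hSyH D (fun x hx u hu hux => ?_)
    rw [hSy] at hx hux
    set P₁ : Subgroup Ω := pre ι (ι.range.comap (MulAut.conj u).toMonoidHom) with hP₁
    have hmemP : ∀ a, a ∈ P₁ ↔ a ∈ S ∧ u * tf ι a * u⁻¹ ∈ ι.range := by
      intro a
      rw [hP₁, mem_pre]
      rfl
    set f₁ : Ω → Ω := fun a => tinv ι (u * tf ι a * u⁻¹) with hf₁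
    have hf₁v : ∀ a ∈ P₁, tf ι (f₁ a) = u * tf ι a * u⁻¹ := fun a ha =>
      tf_tinv ι ((hmemP a).1 ha).2
    have hP₁S : P₁ ≤ S := fun a ha => ((hmemP a).1 ha).1
    have hmor : Mor F P₁ f₁ := (mor_realized_iff hreal P₁ f₁).2
      ⟨hP₁S, fun a _ => tinv_mem ι _, u, hf₁v⟩
    have hconjW : ∀ w ∈ WS W (Sy : Subgroup G), u * w * u⁻¹ ∈ WS W (Sy : Subgroup G) :=
      fun w hw => (Subgroup.mem_normalizer_iff.1 hu w).1 hw
    have hWP : WS W S ≤ P₁ := by
      intro w hw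
      refine (hmemP w).2 ⟨WS_le S hw, ?_⟩
      rw [← hSy]
      exact WS_le _ (hconjW _ ((key _).2 ⟨w, hw, rfl⟩))
    have hin : InN F (WS W S) P₁ f₁ := by
      refine ⟨by rw [hNS]; exact hP₁S, f₁, by rw [sup_eq_left.2 hWP]; exact hmor,
        fun _ _ => rfl, fun y => ?_⟩
      constructor
      · intro hy
        have h1 : u⁻¹ * tf ι y * u⁻¹⁻¹ ∈ WS W (Sy : Subgroup G) :=
          (Subgroup.mem_normalizer_iff.1 (Subgroup.inv_mem _ hu) _).1 ((key _).2 ⟨y, hy, rfl⟩)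
        obtain ⟨w, hw, e⟩ := (key _).1 h1
        refine ⟨w, hw, tf_inj hιinj (tinv_mem ι _) (WS_le S hy) ?_⟩
        rw [hf₁v w (hWP hw), e]
        group
      · rintro ⟨w, hw, rfl⟩
        obtain ⟨w', hw', e⟩ := (key _).1 (hconjW _ ((key _).2 ⟨w, hw, rfl⟩))
        have : f₁ w = w' := tf_inj hιinj (tinv_mem ι _) (WS_le S hw') (by rw [hf₁v w (hWP hw), e])
        rw [this]
        exact hw'
    obtain ⟨a, rfl⟩ := hx
    have haP : ((a : Ω))⁻¹ ∈ P₁ := by
      refine P₁.inv_mem ((hmemP a).2 ⟨a.2, ?_⟩)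
      rw [tf_coe]
      exact hux
    have h2 := hT P₁ f₁ hin _ haP
    have h3 := hmemD _ (S.mul_mem (S.inv_mem (hP₁S haP)) (hmor.mem haP)) h2
    rw [tf_mul ι (S.inv_mem (hP₁S haP)) (hmor.mem haP), hf₁v _ haP, inv_inv, tf_coe,
      tf_apply ι (S.inv_mem a.2)] at h3
    have e : ι ⟨(a : Ω)⁻¹, S.inv_mem a.2⟩ = (ι a)⁻¹ := by
      rw [← map_inv]; rfl
    rw [e] at h3
    rw [commutatorElement_def]
    have e2 : ι a * u * (ι a)⁻¹ * u⁻¹ = ι a * (u * (ι a)⁻¹ * u⁻¹) := by group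
    rw [e2]
    exact h3
  intro P f hf x hx
  obtain ⟨hPS, hfS, g, hg⟩ := (mor_realized_iff hreal P f).1 hf
  have hxS := hPS hx
  have hmem : x⁻¹ * f x ∈ S := S.mul_mem (S.inv_mem hxS) (hfS x hx)
  have h1 : tf ι (x⁻¹ * f x) ∈ (Sy : Subgroup G) ⊓ commutator G := by
    refine ⟨by rw [hSy]; exact tf_mem_range ι hmem, ?_⟩
    rw [tf_mul ι (S.inv_mem hxS) (hfS x hx), hg x hx]
    have e : tf ι x⁻¹ = (tf ι x)⁻¹ := by
      rw [tf_apply ι (S.inv_mem hxS), tf_apply ι hxS, ← map_inv]; rfl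
    rw [e]
    have e2 : (tf ι x)⁻¹ * (g * tf ι x * g⁻¹) = ⁅(tf ι x)⁻¹, g⁆ := by
      rw [commutatorElement_def]; group
    rw [e2, commutator_def]
    exact Subgroup.commutator_mem_commutator (Subgroup.mem_top _) (Subgroup.mem_top _)
  have h2 : tf ι (x⁻¹ * f x) ∈ D := hA ⟨h1.1, hG G Sy hcen h1⟩
  obtain ⟨t, ht, e⟩ := h2
  rw [tf_apply ι hmem] at e
  have := hιinj e
  have h3 : (t : Ω) = x⁻¹ * f x := congrArg Subtype.val this
  rw [← h3]
  exact ht

end Cfsg.Agent.Lib.Helper40.FT
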