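import Cfsg.Agent.Lib.Helper90.Biset.CycDefs

/-!
Equal labelled fixed-point counts give equal cycle products (for helper90's characteristic biset
transfer).
-/

set_option autoImplicit false

namespace Cfsg.Agent.Lib.Helper40.CycleCount

open Cfsg.Agent.Lib.Helper90

variable {G : Type*} {A : Type*} [Group G] [CommGroup A]

/-- the length of the cycle of `y` through `q`. -/
noncomputable def per (Q : Subgroup G) (y : G) (q : G ⧸ Q) : ℕ :=
  Function.minimalPeriod (y • ·) q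

/-- the label of the cycle of `y` through `q`. -/
noncomputable def lab (Q : Subgroup G) (ψ : G → A) (y : G) (q : G ⧸ Q) : A :=
  ψ (q.out⁻¹ * y ^ per Q y q * q.out)

/-- length and label. -/
noncomputable def typ (Q : Subgroup G) (ψ : G → A) (y : G) (q : G ⧸ Q) : ℕ × A :=
  (per Q y q, lab Q ψ y q)

/-- number of points of a given type. -/
noncomputable def nu (Q : Subgroup G) (ψ : G → A) (y : G) (z : ℕ × A) : ℕ :=
  Nat.card {q : G ⧸ Q // typ Q ψ y q = z}

/-- number of cycles of a given type. -/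
noncomputable def mu (Q : Subgroup G) (ψ : G → A) (y : G) (z : ℕ × A) : ℕ :=
  Nat.card {o : Quotient (MulAction.orbitRel (Subgroup.zpowers y) (G ⧸ Q)) // typ Q ψ y o.out = z}

/-- the hypotheses on a label function. -/
structure Good (Q H : Subgroup G) (ψ : G → A) : Prop where
  mul : ∀ r r' : G, r ∈ Q → r ∈ H → r' ∈ Q → r' ∈ H → ψ (r * r') = ψ r * ψ r'
  conj : ∀ r u : G, r ∈ Q → r ∈ H → u ∈ Q → ψ (u⁻¹ * r * u) = ψ r

variable {Q H : Subgroup G} {ψ : G → A} {y : G}

theorem Good.one (h : Good Q H ψ) : ψ 1 = 1 := by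
  have := h.mul 1 1 Q.one_mem H.one_mem Q.one_mem H.one_mem
  rw [mul_one] at this
  exact (mul_eq_left.1 this.symm)

theorem Good.pow (h : Good Q H ψ) {r : G} (hr : r ∈ Q) (hrH : r ∈ H) (n : ℕ) :
    ψ (r ^ n) = ψ r ^ n := by
  induction n with
  | zero => simpa using h.one
  | succ n ih =>
    rw [pow_succ, pow_succ, h.mul _ _ (Q.pow_mem hr n) (H.pow_mem hrH n) hr hrH, ih]

theorem pow_smul_coe_eq_iff (u : G) (k : ℕ) :
    y ^ k • (u : G ⧸ Q) = (u : G ⧸ Q) ↔ u⁻¹ * y ^ k * u ∈ Q := by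
  rw [eq_comm]
  show (u : G ⧸ Q) = ((y ^ k * u : G) : G ⧸ Q) ↔ _
  rw [QuotientGroup.eq, mul_assoc]

theorem per_dvd_iff (q : G ⧸ Q) (k : ℕ) : per Q y q ∣ k ↔ y ^ k • q = q :=
  MulAction.pow_smul_eq_iff_minimalPeriod_dvd.symm

theorem per_pos [Finite G] (q : G ⧸ Q) : 0 < per Q y q :=
  Nat.pos_of_ne_zero (MulAction.minimalPeriod_pos (a := y) (b := q)).out

theorem per_le [Finite G] (q : G ⧸ Q) : per Q y q ≤ Nat.card G := by
  have h1 : per Q y q ∣ orderOf y := by
    rw [per_dvd_iff, pow_orderOf_eq_one, one_smul]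
  exact (Nat.le_of_dvd (orderOf_pos y) h1).trans (orderOf_le_card)

theorem label_eq [H.Normal] (h : Good Q H ψ) (hy : y ∈ H) (u : G) (k : ℕ)
    (hk : u⁻¹ * y ^ k * u ∈ Q) :
    ψ (u⁻¹ * y ^ k * u) = lab Q ψ y (u : G ⧸ Q) ^ (k / per Q y (u : G ⧸ Q)) := by
  set q : G ⧸ Q := (u : G ⧸ Q) with hq
  set d := per Q y q with hd
  have hdk : d ∣ k := (per_dvd_iff q k).2 ((pow_smul_coe_eq_iff u k).2 hk)
  obtain ⟨m, rfl⟩ := hdk
  set v := q.out with hv
  have hvq : (v : G ⧸ Q) = q := q.out_eq'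
  have hr : v⁻¹ * u ∈ Q := by
    rw [← QuotientGroup.eq, hvq]
  set r := v⁻¹ * u with hrdef
  have hu : u = v * r := by rw [hrdef]; group
  set g := v⁻¹ * y ^ d * v with hg
  have hgQ : g ∈ Q := by
    rw [hg, ← pow_smul_coe_eq_iff, hvq, ← per_dvd_iff]
  have hgH : g ∈ H := by
    have := (inferInstance : H.Normal).conj_mem _ (H.pow_mem hy d) v⁻¹
    rwa [inv_inv] at this
  have e1 : u⁻¹ * y ^ (d * m) * u = r⁻¹ * g ^ m * r := by
    have : g ^ m = v⁻¹ * y ^ (d * m) * v := by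
      rw [hg, pow_mul]
      have := conj_pow (a := v⁻¹) (b := y ^ d) (i := m)
      rw [inv_inv] at this
      exact this
    rw [this, hu]
    group
  rw [e1, h.conj _ _ (Q.pow_mem hgQ m) (H.pow_mem hgH m) hr, h.pow hgQ hgH]
  by_cases hd0 : d = 0
  · have : g = 1 := by rw [hg, hd0]; simp
    show ψ g ^ m = (ψ g) ^ _
    rw [this, h.one, one_pow, one_pow]
  · rw [Nat.mul_div_cancel_left _ (Nat.pos_of_ne_zero hd0)]
    rfl

theorem per_smul [Finite G] (q : G ⧸ Q) : per Q y (y • q) = per Q y q := by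
  apply Function.minimalPeriod_apply
  exact Function.mem_periodicPts.2 ⟨per Q y q, per_pos q, Function.isPeriodicPt_minimalPeriod _ _⟩

theorem lab_smul [Finite G] [H.Normal] (h : Good Q H ψ) (hy : y ∈ H) (q : G ⧸ Q) :
    lab Q ψ y (y • q) = lab Q ψ y q := by
  set d := per Q y q with hd
  set v := q.out with hv
  have hvq : (v : G ⧸ Q) = q := q.out_eq'
  have hyq : ((y * v : G) : G ⧸ Q) = y • q := by
    rw [← hvq]; rfl
  have e : (y * v)⁻¹ * y ^ d * (y * v) = v⁻¹ * y ^ d * v := by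
    have : y⁻¹ * y ^ d * y = y ^ d := by
      rw [mul_assoc, ← pow_succ, pow_succ', inv_mul_cancel_left]
    calc (y * v)⁻¹ * y ^ d * (y * v) = v⁻¹ * (y⁻¹ * y ^ d * y) * v := by group
      _ = _ := by rw [this]
  have hgQ : v⁻¹ * y ^ d * v ∈ Q := by
    rw [← pow_smul_coe_eq_iff, hvq, ← per_dvd_iff]
  have h1 := label_eq h hy (y * v) d (by rw [e]; exact hgQ)
  rw [hyq, per_smul, ← hd, Nat.div_self (per_pos q), pow_one, e] at h1
  exact h1.symm

theorem typ_smul [Finite G] [H.Normal] (h : Good Q H ψ) (hy : y ∈ H) (q : G ⧸ Q) :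
    typ Q ψ y (y • q) = typ Q ψ y q := by
  unfold typ
  rw [per_smul, lab_smul h hy]

theorem typ_pow_smul [Finite G] [H.Normal] (h : Good Q H ψ) (hy : y ∈ H) (q : G ⧸ Q) (n : ℕ) :
    typ Q ψ y (y ^ n • q) = typ Q ψ y q := by
  induction n with
  | zero => simp
  | succ n ih => rw [pow_succ', mul_smul, typ_smul h hy, ih]

theorem typ_eq_of_mem_orbit [Finite G] [H.Normal] (h : Good Q H ψ) (hy : y ∈ H) {q q' : G ⧸ Q}
    (hq : q' ∈ MulAction.orbit (Subgroup.zpowers y) q) : typ Q ψ y q' = typ Q ψ y q := by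
  obtain ⟨⟨g, hg⟩, rfl⟩ := hq
  obtain ⟨n, rfl⟩ := (isOfFinOrder_of_finite y).mem_powers_iff_mem_zpowers.2 hg
  exact typ_pow_smul h hy q n

theorem nu_eq [Finite G] [H.Normal] (h : Good Q H ψ) (hy : y ∈ H) (z : ℕ × A) :
    nu Q ψ y z = z.1 * mu Q ψ y z := by
  classical
  have := Fintype.ofFinite (G ⧸ Q)
  have := Fintype.ofFinite (Quotient (MulAction.orbitRel (Subgroup.zpowers y) (G ⧸ Q)))
  unfold nu mu
  rw [Nat.card_eq_fintype_card, Nat.card_eq_fintype_card, Fintype.card_subtype,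
    Fintype.card_subtype]
  rw [Finset.card_eq_sum_card_fiberwise (f := fun q : G ⧸ Q =>
    (Quotient.mk'' q : Quotient (MulAction.orbitRel (Subgroup.zpowers y) (G ⧸ Q))))
    (t := Finset.univ) (fun _ _ => Finset.mem_coe.2 (Finset.mem_univ _))]
  rw [Finset.card_filter, Finset.mul_sum]
  refine Finset.sum_congr rfl (fun o _ => ?_)
  have hmem : ∀ q : G ⧸ Q, (Quotient.mk'' q : Quotient (MulAction.orbitRel (Subgroup.zpowers y)
      (G ⧸ Q))) = o ↔ q ∈ MulAction.orbit (Subgroup.zpowers y) o.out := by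
    intro q
    conv_lhs => rw [← o.out_eq']
    rw [Quotient.eq'']
    exact MulAction.orbitRel_apply
  by_cases ho : typ Q ψ y o.out = z
  · rw [if_pos ho, mul_one]
    have e : z.1 = per Q y o.out := by rw [← ho]; rfl
    rw [e]
    unfold per
    rw [MulAction.minimalPeriod_eq_card, Fintype.card_subtype]
    congr 1
    ext q
    simp only [Finset.mem_filter, Finset.mem_univ, true_and]
    rw [hmem]
    constructor
    · exact fun hh => hh.2
    · exact fun hh => ⟨(typ_eq_of_mem_orbit h hy hh).trans ho, hh⟩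
  · rw [if_neg ho, mul_zero, Finset.card_eq_zero, Finset.filter_eq_empty_iff]
    intro q hq hqo
    rw [Finset.mem_filter] at hq
    exact ho ((typ_eq_of_mem_orbit h hy ((hmem q).1 hqo)).symm.trans hq.2)

/-- the index set of possible types. -/
noncomputable def idx (G : Type*) (A : Type*) [Fintype A] : Finset (ℕ × A) :=
  Finset.range (Nat.card G + 1) ×ˢ Finset.univ

theorem typ_mem_idx [Finite G] [Fintype A] (q : G ⧸ Q) : typ Q ψ y q ∈ idx G A := by
  unfold idx typ
  rw [Finset.mem_product]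
  exact ⟨Finset.mem_range.2 (Nat.lt_succ_of_le (per_le q)), Finset.mem_univ _⟩

theorem cnt_eq [Finite G] [Fintype A] [DecidableEq A] [H.Normal] (h : Good Q H ψ) (hy : y ∈ H)
    (k : ℕ) (a : A) :
    Cyc.cnt Q ψ y k a =
      ∑ z ∈ idx G A, if (z.1 ∣ k ∧ z.2 ^ (k / z.1) = a) then nu Q ψ y z else 0 := by
  classical
  have := Fintype.ofFinite (G ⧸ Q)
  have key : ∀ q : G ⧸ Q, (∃ u : G, (u : G ⧸ Q) = q ∧ u⁻¹ * y ^ k * u ∈ Q ∧
      ψ (u⁻¹ * y ^ k * u) = a) ↔
      ((typ Q ψ y q).1 ∣ k ∧ (typ Q ψ y q).2 ^ (k / (typ Q ψ y q).1) = a) := by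
    intro q
    constructor
    · rintro ⟨u, rfl, hu, hψ⟩
      refine ⟨(per_dvd_iff _ k).2 ((pow_smul_coe_eq_iff u k).2 hu), ?_⟩
      rw [← hψ, label_eq h hy u k hu]
      rfl
    · rintro ⟨h1, h2⟩
      have hq : (q.out : G ⧸ Q) = q := q.out_eq'
      have hu : q.out⁻¹ * y ^ k * q.out ∈ Q := by
        rw [← pow_smul_coe_eq_iff, hq, ← per_dvd_iff]
        exact h1
      refine ⟨q.out, hq, hu, ?_⟩
      rw [label_eq h hy _ k hu, hq]
      exact h2
  unfold Cyc.cnt
  rw [Nat.card_congr (Equiv.subtypeEquivRight key), Nat.card_eq_fintype_card, Fintype.card_subtype,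
    Finset.card_eq_sum_card_fiberwise (f := typ Q ψ y) (t := idx G A)
      (fun q _ => Finset.mem_coe.2 (typ_mem_idx q))]
  refine Finset.sum_congr rfl (fun z _ => ?_)
  unfold nu
  rw [Nat.card_eq_fintype_card, Fintype.card_subtype, Finset.filter_filter]
  by_cases hz : z.1 ∣ k ∧ z.2 ^ (k / z.1) = a
  · rw [if_pos hz]
    congr 1
    ext q
    simp only [Finset.mem_filter, Finset.mem_univ, true_and]
    constructor
    · exact fun hh => hh.2
    · intro hh
      refine ⟨?_, hh⟩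
      rw [hh]
      exact hz
  · rw [if_neg hz, Finset.card_eq_zero, Finset.filter_eq_empty_iff]
    rintro q - ⟨h1, h2⟩
    rw [h2] at h1
    exact hz h1

theorem cyc_eq [Finite G] [Fintype A] [DecidableEq A] :
    Cyc.cyc Q ψ y = ∏ z ∈ idx G A, z.2 ^ mu Q ψ y z := by
  classical
  letI : Fintype (Quotient (MulAction.orbitRel (Subgroup.zpowers y) (G ⧸ Q))) :=
    Fintype.ofFinite _
  unfold Cyc.cyc
  rw [← Finset.prod_fiberwise_of_maps_to (g := fun o : Quotient (MulAction.orbitRel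
    (Subgroup.zpowers y) (G ⧸ Q)) => typ Q ψ y o.out) (t := idx G A)
    (fun o _ => typ_mem_idx o.out)]
  refine Finset.prod_congr rfl (fun z _ => ?_)
  unfold mu
  rw [Nat.card_eq_fintype_card, Fintype.card_subtype, ← Finset.prod_const]
  refine Finset.prod_congr rfl (fun o ho => ?_)
  rw [Finset.mem_filter] at ho
  rw [← ho.2]
  rfl

theorem mu_zero [Finite G] (b : A) : mu Q ψ y (0, b) = 0 := by
  unfold mu
  rw [Nat.card_eq_zero]
  left
  refine ⟨fun o => ?_⟩
  have h1 : per Q y o.1.out = 0 := congrArg Prod.fst o.2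
  exact (per_pos o.1.out).ne' h1

theorem nu_eq_zero_of_notMem [Finite G] [Fintype A] {z : ℕ × A} (hz : z ∉ idx G A) :
    nu Q ψ y z = 0 := by
  unfold nu
  rw [Nat.card_eq_zero]
  left
  refine ⟨fun q => hz ?_⟩
  rw [← q.2]
  exact typ_mem_idx q.1

end Cfsg.Agent.Lib.Helper40.CycleCount

namespace Cfsg.Agent.Lib.Helper40

open Cfsg.Agent.Lib.Helper90 CycleCount

/-- Equal labelled fixed-point counts give equal cycle products. -/
theorem cyc_prod_eq {G : Type*} {A : Type*} {ι : Type*} [Group G] [Finite G] [CommGroup A]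
    [Finite A] (s : Finset ι) (Q : ι → Subgroup G) (ψ : ι → G → A) (c : ι → ℕ) (H : Subgroup G)
    [H.Normal]
    (hmul : ∀ i ∈ s, ∀ r r' : G, r ∈ Q i → r ∈ H → r' ∈ Q i → r' ∈ H →
      ψ i (r * r') = ψ i r * ψ i r')
    (hconj : ∀ i ∈ s, ∀ r u : G, r ∈ Q i → r ∈ H → u ∈ Q i → ψ i (u⁻¹ * r * u) = ψ i r)
    (y y' : G) (hy : y ∈ H) (hy' : y' ∈ H)
    (hcnt : ∀ (k : ℕ) (a : A), ∑ i ∈ s, c i * Cyc.cnt (Q i) (ψ i) y k a =
      ∑ i ∈ s, c i * Cyc.cnt (Q i) (ψ i) y' k a) :
    ∏ i ∈ s, Cyc.cyc (Q i) (ψ i) y ^ c i = ∏ i ∈ s, Cyc.cyc (Q i) (ψ i) y' ^ c i := by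
  classical
  have := Fintype.ofFinite A
  have hgood : ∀ i ∈ s, Good (Q i) H (ψ i) := fun i hi => ⟨hmul i hi, hconj i hi⟩
  set N : G → ℕ × A → ℕ := fun t z => ∑ i ∈ s, c i * nu (Q i) (ψ i) t z with hNdef
  have hsum : ∀ t ∈ H, ∀ (k : ℕ) (a : A), ∑ i ∈ s, c i * Cyc.cnt (Q i) (ψ i) t k a =
      ∑ z ∈ idx G A, if (z.1 ∣ k ∧ z.2 ^ (k / z.1) = a) then N t z else 0 := by
    intro t ht k a
    have h1 : ∀ i ∈ s, c i * Cyc.cnt (Q i) (ψ i) t k a = ∑ z ∈ idx G A,
        if (z.1 ∣ k ∧ z.2 ^ (k / z.1) = a) then c i * nu (Q i) (ψ i) t z else 0 := by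
      intro i hi
      rw [cnt_eq (hgood i hi) ht, Finset.mul_sum]
      refine Finset.sum_congr rfl (fun z _ => ?_)
      rw [mul_ite, mul_zero]
    rw [Finset.sum_congr rfl h1, Finset.sum_comm]
    refine Finset.sum_congr rfl (fun z _ => ?_)
    by_cases hz : z.1 ∣ k ∧ z.2 ^ (k / z.1) = a
    · simp only [if_pos hz, hNdef]
    · simp only [if_neg hz, Finset.sum_const_zero]
  have hN : ∀ (d : ℕ) (b : A), N y (d, b) = N y' (d, b) := by
    intro d
    induction d using Nat.strong_induction_on with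
    | _ d ih =>
    intro b
    by_cases hmem : (d, b) ∈ idx G A
    · by_cases hd : d = 0
      · have h0 : ∀ t ∈ H, N t (d, b) = 0 := by
          intro t ht
          refine Finset.sum_eq_zero (fun i hi => ?_)
          rw [nu_eq (hgood i hi) ht, hd]
          simp
        rw [h0 y hy, h0 y' hy']
      · have h1 := hcnt d b
        rw [hsum y hy, hsum y' hy', ← Finset.add_sum_erase _ _ hmem,
          ← Finset.add_sum_erase (idx G A) _ hmem] at h1
        have hc : (d ∣ d ∧ b ^ (d / d) = b) := ⟨dvd_rfl, by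
          rw [Nat.div_self (Nat.pos_of_ne_zero hd), pow_one]⟩
        have h2 : ∑ z ∈ (idx G A).erase (d, b),
            (if (z.1 ∣ d ∧ z.2 ^ (d / z.1) = b) then N y z else 0) =
            ∑ z ∈ (idx G A).erase (d, b),
            (if (z.1 ∣ d ∧ z.2 ^ (d / z.1) = b) then N y' z else 0) := by
          refine Finset.sum_congr rfl (fun z hz => ?_)
          by_cases hcz : z.1 ∣ d ∧ z.2 ^ (d / z.1) = b
          · rw [if_pos hcz, if_pos hcz]
            have hle : z.1 ≤ d := Nat.le_of_dvd (Nat.pos_of_ne_zero hd) hcz.1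
            rcases hle.lt_or_eq with hlt | heq
            · exact ih z.1 hlt z.2
            · exfalso
              apply (Finset.mem_erase.1 hz).1
              have h3 := hcz.2
              rw [heq, Nat.div_self (Nat.pos_of_ne_zero hd), pow_one] at h3
              exact Prod.ext heq h3
          · rw [if_neg hcz, if_neg hcz]
        rw [h2] at h1
        have h3 := Nat.add_right_cancel h1
        simpa only [if_pos hc] using h3
    · have h0 : ∀ t : G, N t (d, b) = 0 := by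
        intro t
        refine Finset.sum_eq_zero (fun i _ => ?_)
        rw [nu_eq_zero_of_notMem hmem, mul_zero]
      rw [h0, h0]
  have hM : ∀ z : ℕ × A, ∑ i ∈ s, mu (Q i) (ψ i) y z * c i = ∑ i ∈ s, mu (Q i) (ψ i) y' z * c i := by
    rintro ⟨d, b⟩
    by_cases hd : d = 0
    · subst hd
      simp only [mu_zero, zero_mul]
    · have h1 := hN d b
      have h2 : ∀ t ∈ H, N t (d, b) = d * ∑ i ∈ s, mu (Q i) (ψ i) t (d, b) * c i := by
        intro t ht
        rw [Finset.mul_sum]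
        refine Finset.sum_congr rfl (fun i hi => ?_)
        rw [nu_eq (hgood i hi) ht]
        ring
      rw [h2 y hy, h2 y' hy'] at h1
      exact Nat.eq_of_mul_eq_mul_left (Nat.pos_of_ne_zero hd) h1
  have hprod : ∀ t : G, ∏ i ∈ s, Cyc.cyc (Q i) (ψ i) t ^ c i =
      ∏ z ∈ idx G A, z.2 ^ (∑ i ∈ s, mu (Q i) (ψ i) t z * c i) := by
    intro t
    have h1 : ∀ i ∈ s, Cyc.cyc (Q i) (ψ i) t ^ c i =
        ∏ z ∈ idx G A, z.2 ^ (mu (Q i) (ψ i) t z * c i) := by
      intro i _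
      rw [cyc_eq, ← Finset.prod_pow]
      refine Finset.prod_congr rfl (fun z _ => ?_)
      rw [pow_mul]
    rw [Finset.prod_congr rfl h1, Finset.prod_comm]
    refine Finset.prod_congr rfl (fun z _ => ?_)
    rw [Finset.prod_pow_eq_pow_sum]
  rw [hprod, hprod]
  refine Finset.prod_congr rfl (fun z _ => ?_)
  rw [hM]

end Cfsg.Agent.Lib.Helper40
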