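import Cfsg.Agent.Lib.Helper90.Biset.CycDefs

/-! The cycle product of a "power-like" label is a power with exponent the index. -/

set_option autoImplicit false

namespace Cfsg.Agent.Lib.Helper40

open Cfsg.Agent.Lib.Helper90

theorem cyc_eq_pow {G : Type*} {A : Type*} [Group G] [Finite G] [CommGroup A] (Q : Subgroup G)
    (ψ : G → A) (y : G) (β : A)
    (h : ∀ (k : ℕ) (u : G), u⁻¹ * y ^ k * u ∈ Q → ψ (u⁻¹ * y ^ k * u) = β ^ k) :
    Cyc.cyc Q ψ y = β ^ Q.index := by
  classical
  letI : Fintype (Quotient (MulAction.orbitRel (Subgroup.zpowers y) (G ⧸ Q))) :=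
    Fintype.ofFinite _
  have := Fintype.ofFinite (G ⧸ Q)
  unfold Cyc.cyc
  have h1 : ∀ q : Quotient (MulAction.orbitRel (Subgroup.zpowers y) (G ⧸ Q)),
      ψ (q.out.out⁻¹ * y ^ Function.minimalPeriod (y • ·) q.out * q.out.out) =
        β ^ Function.minimalPeriod (y • ·) q.out := fun q =>
    h _ _ (QuotientGroup.out_conj_pow_minimalPeriod_mem Q y q.out)
  rw [Finset.prod_congr rfl (fun q _ => h1 q), Finset.prod_pow_eq_pow_sum]
  congr 1
  simp only [MulAction.minimalPeriod_eq_card]
  rw [← Fintype.card_sigma, Subgroup.index_eq_card, Nat.card_eq_fintype_card]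
  exact (Fintype.card_congr (MulAction.selfEquivSigmaOrbits (Subgroup.zpowers y) (G ⧸ Q))).symm

end Cfsg.Agent.Lib.Helper40
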