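import Cfsg.Agent.Lib.Helper40.FusTransfer1

set_option autoImplicit false

/-! Control of transfer in saturated fusion systems: quotients, and `Q ∩ foc(S C_F(Q)) ≤ S'`. -/

namespace Cfsg.Agent.Lib.Helper40.FT

open Cfsg Cfsg.FusionSystem Cfsg.Agent.Lib.Helper87 Cfsg.Agent.Lib.Helper86.Model
  Cfsg.Agent.Lib.Helper86.SecFree Cfsg.Agent.Lib.Helper86.KL
open scoped commutatorElement

universe u

/-- the quotient by a strongly closed subgroup, packaged. -/
theorem exists_quotient {p : ℕ} [Fact p.Prime] {Ω : Type u} [Group Ω] {S : Subgroup Ω} [Finite S]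
    (hS : IsPGroup p S) {E : FusionSystem S} (hE : E.IsSaturated p) {Q : Subgroup Ω}
    (hsc : E.StronglyClosed Q) :
    ∃ (Ω' : Type u) (_ : Group Ω') (S' : Subgroup Ω') (Eb : FusionSystem S') (θ : Ω → Ω')
      (h : SurjMor E Eb θ), h.ker = Q := by
  have hQS := hsc.1
  have hQn : S ≤ Subgroup.normalizer (Q : Set Ω) := StronglyClosed.le_normalizer hsc
  have hnorm : (Q.subgroupOf S).Normal := by
    rw [← Subgroup.normalizer_eq_top_iff, eq_top_iff]
    intro s _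
    rw [Subgroup.mem_normalizer_iff]
    intro x
    exact Subgroup.mem_normalizer_iff.1 (hQn s.2) x
  obtain ⟨Eb, hEb⟩ := Cfsg.Agent.S5132.result p hS E Q hsc
  have h := surjMor_of_factor hS hE hsc hEb
  refine ⟨_, _, _, Eb, _, h, ?_⟩
  ext x
  rw [h.mem_ker]
  constructor
  · rintro ⟨hx, e⟩
    rw [tf_apply _ hx] at e
    exact (hEb.2.1 ⟨x, hx⟩).1 e
  · intro hx
    refine ⟨hQS hx, ?_⟩
    rw [tf_apply _ (hQS hx)]
    exact (hEb.2.1 ⟨x, hQS hx⟩).2 hx

theorem SurjMor.focal_le_preimage {Ω : Type*} [Group Ω] {S : Subgroup Ω} {Ω' : Type*} [Group Ω']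
    {S' : Subgroup Ω'} {F : FusionSystem S} {F' : FusionSystem S'} {θ : Ω → Ω'}
    (h : SurjMor F F' θ) : F.focalSubgroup ≤ h.preimage F'.focalSubgroup := by
  rw [focal_le_iff]
  intro P f hf x hx
  have hxS := hf.le hx
  refine ⟨S.mul_mem (S.inv_mem hxS) (hf.mem hx), ?_⟩
  obtain ⟨fb, hfb, e⟩ := h.push P f hf (h.image P hf.le) (h.mem_image hf.le)
  rw [h.map_mul _ (S.inv_mem hxS) _ (hf.mem hx), h.map_inv hxS, ← e x hx]
  exact mem_focal hfb ⟨x, hx, rfl⟩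

theorem SurjMor.commutator_le_image {Ω : Type*} [Group Ω] {S : Subgroup Ω} {Ω' : Type*} [Group Ω']
    {S' : Subgroup Ω'} {F : FusionSystem S} {F' : FusionSystem S'} {θ : Ω → Ω'}
    (h : SurjMor F F' θ) :
    ⁅S', S'⁆ ≤ h.image ⁅S, S⁆ (Subgroup.commutator_le.2 (fun a ha b hb =>
      S.mul_mem (S.mul_mem (S.mul_mem ha hb) (S.inv_mem ha)) (S.inv_mem hb))) := by
  rw [Subgroup.commutator_le]
  intro a ha b hb
  obtain ⟨s, hs, rfl⟩ := h.surj a ha
  obtain ⟨t, ht, rfl⟩ := h.surj b hb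
  refine ⟨⁅s, t⁆, Subgroup.commutator_mem_commutator hs ht, ?_⟩
  rw [commutatorElement_def, commutatorElement_def,
    h.map_mul _ (S.mul_mem (S.mul_mem hs ht) (S.inv_mem hs)) _ (S.inv_mem ht),
    h.map_mul _ (S.mul_mem hs ht) _ (S.inv_mem hs), h.map_mul _ hs _ ht, h.map_inv hs, h.map_inv ht]

theorem conj_mem_commutator {Ω : Type*} [Group Ω] {Q S : Subgroup Ω}
    (hQn : S ≤ Subgroup.normalizer (Q : Set Ω)) {s x : Ω} (hs : s ∈ S) (hx : x ∈ ⁅Q, S⁆) :
    s * x * s⁻¹ ∈ ⁅Q, S⁆ := by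
  have h1 : (⁅Q, S⁆).map (MulAut.conj s).toMonoidHom ≤ ⁅Q, S⁆ := by
    rw [Subgroup.map_commutator]
    refine Subgroup.commutator_mono ?_ ?_
    · rintro _ ⟨a, ha, rfl⟩
      exact (Subgroup.mem_normalizer_iff.1 (hQn hs) a).1 ha
    · rintro _ ⟨a, ha, rfl⟩
      exact S.mul_mem (S.mul_mem hs ha) (S.inv_mem hs)
  exact h1 ⟨x, hx, rfl⟩

/-- the text of S5329 (in one universe). -/
def HC (p : ℕ) : Prop :=
  ∀ (Ω : Type u) [Group Ω] (S : Subgroup Ω) [Finite S], IsPGroup p S → ∀ F : FusionSystem S,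
    F.IsSaturated p → F.focalSubgroup ⊓ F.center = ⁅S, S⁆ ⊓ F.center

/-- If every map of `E` extends to `Q` acting there as an element of `S`, then
`Q ∩ foc(E) ≤ S'`. -/
theorem inf_focal_le {p : ℕ} [Fact p.Prime] (hC : HC.{u} p) {Ω : Type u} [Group Ω]
    {S : Subgroup Ω} [Finite S] (hS : IsPGroup p S) {E : FusionSystem S} (hE : E.IsSaturated p)
    {Q : Subgroup Ω} (hQS : Q ≤ S) (hQn : S ≤ Subgroup.normalizer (Q : Set Ω))
    (hext : ∀ P f, Mor E P f → ExtS E Q P f) : Q ⊓ E.focalSubgroup ≤ ⁅S, S⁆ := by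
  set K := ⁅Q, S⁆ with hK
  have hKS' : K ≤ ⁅S, S⁆ := Subgroup.commutator_mono hQS le_rfl
  have hS'S : ⁅S, S⁆ ≤ S := Subgroup.commutator_le.2 (fun a ha b hb =>
      S.mul_mem (S.mul_mem (S.mul_mem ha hb) (S.inv_mem ha)) (S.inv_mem hb))
  have hKQ : K ≤ Q := by
    rw [hK, Subgroup.commutator_le]
    intro a ha b hb
    rw [commutatorElement_def, mul_assoc, mul_assoc]
    refine Q.mul_mem ha ?_
    rw [← mul_assoc]
    exact (Subgroup.mem_normalizer_iff.1 (hQn hb) _).1 (Q.inv_mem ha)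
  have hsc : E.StronglyClosed K := by
    rw [stronglyClosed_iff]
    refine ⟨hKS'.trans hS'S, fun R f hf x hx hxK => ?_⟩
    obtain ⟨f', -, h2, s, hs, h3⟩ := hext R f hf
    rw [← h2 x hx, h3 x (hKQ hxK)]
    exact conj_mem_commutator hQn hs hxK
  obtain ⟨Ω', _, S', Eb, θ, h, hker⟩ := exists_quotient hS hE hsc
  have hfin := h.finite_target
  have hcen : Eb.IsCentral (h.image Q hQS) := by
    rw [isCentral_iff]
    refine ⟨?_, fun Pb fb hfb => ?_⟩
    · rintro _ ⟨q, hq, rfl⟩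
      exact h.mem q (hQS hq)
    · obtain ⟨f, hf, e⟩ := h.lift Pb fb hfb (h.preimage Pb) (h.mem_preimage Pb)
      obtain ⟨f', h1, h2, s, hs, h3⟩ := hext _ f hf
      obtain ⟨fb', hfb', e'⟩ := h.push _ f' h1 (h.image _ h1.le) (h.mem_image h1.le)
      have hle : Pb ⊔ h.image Q hQS ≤ h.image (h.preimage Pb ⊔ Q) h1.le := by
        refine sup_le (fun y hy => ?_) ?_
        · obtain ⟨a, ha, rfl⟩ := h.surj y (hfb.le hy)
          exact ⟨a, Subgroup.mem_sup_left ⟨ha, hy⟩, rfl⟩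
        · rintro _ ⟨q, hq, rfl⟩
          exact ⟨q, Subgroup.mem_sup_right hq, rfl⟩
      refine ⟨fb', hfb'.mono hle, fun y hy => ?_, ?_⟩
      · obtain ⟨a, ha, rfl⟩ := h.surj y (hfb.le hy)
        have haP : a ∈ h.preimage Pb := ⟨ha, hy⟩
        rw [e' a (Subgroup.mem_sup_left haP), h2 a haP, e a haP]
      · rintro _ ⟨q, hq, rfl⟩
        rw [e' q (Subgroup.mem_sup_right hq), h3 q hq, eq_comm,
          h.eq_iff (hQS hq) (S.mul_mem (S.mul_mem hs (hQS hq)) (S.inv_mem hs)), hker]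
        have e2 : q⁻¹ * (s * q * s⁻¹) = ⁅q⁻¹, s⁆ := by
          rw [commutatorElement_def]; group
        rw [e2]
        exact Subgroup.commutator_mem_commutator (Q.inv_mem hq) hs
  have hle : h.image Q hQS ≤ Eb.center := le_sSup hcen
  have hCC := hC Ω' S' (h.isPGroup_target hS) Eb (h.saturated_target hS hE)
  intro q hq
  have h1 : θ q ∈ Eb.focalSubgroup ⊓ Eb.center :=
    ⟨(SurjMor.focal_le_preimage h hq.2).2, hle ⟨q, hq.1, rfl⟩⟩
  rw [hCC] at h1
  obtain ⟨c, hc, e⟩ := SurjMor.commutator_le_image h h1.1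
  have h2 := (h.eq_iff (hS'S hc) (hQS hq.1)).1 e
  rw [hker] at h2
  have : q = c * (c⁻¹ * q) := by group
  rw [this]
  exact Subgroup.mul_mem _ hc (hKS' h2)

end Cfsg.Agent.Lib.Helper40.FT
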