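import Cfsg.Agent.Lib.Helper40.FusTransfer2

set_option autoImplicit false

/-! Control of transfer in saturated fusion systems: the reduction to constrained systems. -/

namespace Cfsg.Agent.Lib.Helper40.FT

open Cfsg Cfsg.FusionSystem Cfsg.Agent.Lib.Helper87 Cfsg.Agent.Lib.Helper86.Model
  Cfsg.Agent.Lib.Helper86.SecFree Cfsg.Agent.Lib.Helper86.KL
open scoped commutatorElement

universe u

theorem InN.of_normalizerSystem {Ω : Type*} [Group Ω] {S : Subgroup Ω} {F : FusionSystem S}
    {R : Subgroup Ω} {N : FusionSystem (normalizerIn S R)} (hN : F.IsNormalizerSystem R N)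
    {U P : Subgroup Ω} {f : Ω → Ω} (h : InN N U P f) : InN F U P f := by
  obtain ⟨h1, f', k1, k2, k3⟩ := h
  exact ⟨h1.trans (inf_le_inf_right _ (normalizerIn_le S R)), f',
    ((mor_normalizerSystem_iff hN _ f').1 k1).2.2.mor, k2, k3⟩

theorem inN_conj {Ω : Type*} [Group Ω] {S : Subgroup Ω} (F : FusionSystem S) {U : Subgroup Ω}
    (hU : U ≤ S) (hUn : S ≤ Subgroup.normalizer (U : Set Ω)) {s : Ω} (hs : s ∈ S) :
    InN F U S (fun x => s * x * s⁻¹) := by
  refine ⟨le_inf le_rfl hUn, fun x => s * x * s⁻¹, ?_, fun _ _ => rfl,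
    conj_iff_of_normalizer (hUn hs)⟩
  rw [sup_eq_left.2 hU]
  exact mor_conj F le_rfl hs

/-- maps of `N_F(R)` in terms of `ExtN`, for `R` normal in `S`. -/
theorem mor_normalizerSystem_of_extN {Ω : Type*} [Group Ω] {S : Subgroup Ω} {F : FusionSystem S}
    {R : Subgroup Ω} (hNR : normalizerIn S R = S) {N : FusionSystem (normalizerIn S R)}
    (hN : F.IsNormalizerSystem R N) {P : Subgroup Ω} {f : Ω → Ω} (h : ExtN F R P f) :
    Mor N P f :=
  (mor_normalizerSystem_iff hN P f).2
    ⟨by rw [hNR]; exact h.mor.le, fun x hx => by rw [hNR]; exact h.mor.mem hx, h⟩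

/-- The statement proved by induction. -/
def Goal (p : ℕ) (W : ∀ (Q : Type u) [Group Q], Subgroup Q) (n m : ℕ) : Prop :=
  ∀ (Ω : Type u) [Group Ω] (S : Subgroup Ω) [Finite S] (F : FusionSystem S) (Q T : Subgroup Ω),
    Nat.card S = n → Nat.card S - Nat.card Q = m → IsPGroup p S → F.IsSaturated p →
    F.IsNormal Q → (∀ P f, InN F (WS W S) P f → Cl T P f) → ∀ P f, Mor F P f → Cl T P f

variable {p : ℕ} {W : ∀ (Q : Type u) [Group Q], Subgroup Q}

theorem goal [Fact p.Prime] (hW : PFun p W) (hG : GT p W) (hC : HC.{u} p) :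
    ∀ n m, Goal p W n m := by
  intro n
  induction n using Nat.strong_induction_on with
  | _ n ihn =>
  intro m
  induction m using Nat.strong_induction_on with
  | _ m ihm =>
  intro Ω _ S _ F Q T hn hm hS hF hQ hT
  have hQS := hQ.1
  have hNQ := normalizerIn_eq_of_normal hQ
  have hQn : S ≤ Subgroup.normalizer (Q : Set Ω) := by
    intro s hs
    rw [← hNQ] at hs
    exact hs.2
  have hWn : S ≤ Subgroup.normalizer (WS W S : Set Ω) :=
    Subgroup.le_normalizer.trans (hW.normalizer_le hS)
  by_cases hQ1 : Q = ⊥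
  · -- no normal subgroup known
    refine local_to_global hS hF (morClass_cl F T) (fun X => WS W X) ?_
      (fun P _ => WS_le P) (fun P hP => hW.normalizerIn_le hS hP) ?_ hT
    · intro P hP hP1
      have : Finite P := finite_of_le hP
      exact hW.WS_ne_bot (hS.to_le hP) hP1
    · intro T₁ hT₁ hTn h P f hPf
      obtain ⟨N, hN⟩ := Cfsg.Agent.S5096.result F T₁ hTn.1
      have hsat := normalizerSystem_saturated hS hF hTn hN
      have hTN := isNormal_normalizerSystem hTn.1 hN
      have hmem : ∀ x ∈ P, f x ∈ normalizerIn S T₁ := by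
        obtain ⟨f', hf', e, hfT⟩ := hPf.2
        intro x hx
        rw [← e x hx]
        exact hf'.map_mem_normalizerIn le_sup_right
          ((sup_le hPf.1 (le_normalizerIn hTn.1)).trans inf_le_right) hfT (Subgroup.mem_sup_left hx)
      have hmor : Mor N P f := (mor_normalizerSystem_iff hN P f).2 ⟨hPf.1, hmem, hPf.2⟩
      have hyp : ∀ P f, InN N (WS W (normalizerIn S T₁)) P f → Cl T P f :=
        fun P f hh => h P f (InN.of_normalizerSystem hN hh)
      have : Finite (normalizerIn S T₁) := finite_of_le (normalizerIn_le S T₁)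
      have hle : Nat.card (normalizerIn S T₁) ≤ Nat.card S :=
        Subgroup.card_le_of_le (normalizerIn_le S T₁)
      rcases hle.lt_or_eq with hlt | heq
      · exact ihn _ (hn ▸ hlt) _ Ω (normalizerIn S T₁) N T₁ T rfl rfl
          (hS.to_le (normalizerIn_le S T₁)) hsat hTN hyp P f hmor
      · refine ihm (Nat.card (normalizerIn S T₁) - Nat.card T₁) ?_ Ω (normalizerIn S T₁) N T₁ T
          (heq.trans hn) rfl (hS.to_le (normalizerIn_le S T₁)) hsat hTN hyp P f hmor
        have hTcard : 1 < Nat.card T₁ := by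
          have : Finite T₁ := finite_of_le hTn.1
          rw [Finite.one_lt_card_iff_nontrivial]
          exact (Subgroup.nontrivial_iff_ne_bot T₁).2 hT₁
        have hTle : Nat.card T₁ ≤ Nat.card S := Subgroup.card_le_of_le hTn.1
        rw [hQ1, Subgroup.card_bot] at hm
        omega
  by_cases hc : centralizerIn S Q ≤ Q
  · -- the constrained case
    refine cl_of_setup hW hG (Q := Q) ⟨hS, hF, hQ, hQS, fun Q' hQ' => ?_⟩ T hT
    rw [IsNormal.eq_of_isConj hQ hQ']
    exact hc
  · -- generation by two pieces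
    set R := Q ⊔ centralizerIn S Q with hR
    have hRS : R ≤ S := sup_le hQS inf_le_left
    have hQR : Q < R := lt_of_le_of_ne le_sup_left (fun h => hc (le_sup_right.trans h.ge))
    have hRn : S ≤ Subgroup.normalizer (R : Set Ω) :=
      le_normalizer_sup hQn (le_normalizer_centralizerIn hQn)
    -- normalizers of larger normal subgroups of `S`, in saturated subsystems on `S`
    have hlarger : ∀ (E : FusionSystem S) (L T' : Subgroup Ω), E.IsSaturated p → Q < L → L ≤ S →
        S ≤ Subgroup.normalizer (L : Set Ω) → (∀ P f, InN E (WS W S) P f → Cl T' P f) →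
        ∀ P f, ExtN E L P f → Cl T' P f := by
      intro E L T' hE hQL hLS hLn hyp P f hPf
      have hNL : normalizerIn S L = S := le_antisymm inf_le_left (le_inf le_rfl hLn)
      obtain ⟨N, hN⟩ := Cfsg.Agent.S5096.result E L hLS
      have hLfn : E.IsFullyNormalized L := ⟨hLS, fun L' _ => by
        rw [hNL]; exact Subgroup.card_le_of_le (normalizerIn_le S L')⟩
      have hsat := normalizerSystem_saturated hS hE hLfn hN
      have hTN := isNormal_normalizerSystem hLS hN
      have : Finite (normalizerIn S L) := finite_of_le (normalizerIn_le S L)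
      have hWW : WS W (normalizerIn S L) = WS W S := congrArg (fun X => WS W X) hNL
      refine ihm (Nat.card (normalizerIn S L) - Nat.card L) (by
          have : Finite L := finite_of_le hLS
          have h1 : Nat.card Q < Nat.card L := Helper86.card_lt_of_lt hQL
          have h2 : Nat.card L ≤ Nat.card S := Subgroup.card_le_of_le hLS
          rw [hNL]
          omega) Ω (normalizerIn S L) N L T' (by rw [hNL]; exact hn) rfl
        (hS.to_le (normalizerIn_le S L)) hsat hTN (fun P f hh => ?_) P f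
        (mor_normalizerSystem_of_extN hNL hN hPf)
      rw [hWW] at hh
      exact hyp P f (InN.of_normalizerSystem hN hh)
    refine generation hF hQ (morClass_cl F T) (fun P f h => ?_)
      (fun P f h => hlarger F R T hF hQR hRS hRn hT P f h)
    -- the system `S C_F(Q)`
    set E := scSystem F Q hQS hQn with hE
    have hEsat : E.IsSaturated p := scSystem_saturated hS hF Q hQS hQn
    have hEn : E.IsNormal Q := scSystem_isNormal F Q hQS hQn
    have hsc := IsNormal.stronglyClosed hEn
    have hEF : ∀ P f, Mor E P f → Mor F P f :=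
      fun P f h => ((mor_scSystem_iff F Q hQS hQn P f).1 h).mor
    have hext : ∀ P f, Mor E P f → ExtS E Q P f := by
      intro P f hf
      obtain ⟨f', h1, h2, s, hs, h3⟩ := (mor_scSystem_iff F Q hQS hQn P f).1 hf
      refine ⟨f', (mor_scSystem_iff F Q hQS hQn _ f').2 ⟨f', ?_, fun _ _ => rfl, s, hs, h3⟩, h2,
        s, hs, h3⟩
      rw [sup_assoc, sup_idem]
      exact h1
    have hmorE : Mor E P f := (mor_scSystem_iff F Q hQS hQn P f).2 h
    set T' := T ⊓ E.focalSubgroup with hT'
    have hT'S : T' ≤ S := inf_le_right.trans (focal_le E)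
    have hypE : ∀ P f, InN E (WS W S) P f → Cl T' P f := by
      intro P f hh x hx
      exact ⟨hT P f ⟨hh.1, ExtN.of_sub hEF hh.2⟩ x hx, mem_focal hh.2.mor hx⟩
    obtain ⟨Ω', _, S', Eb, θ, hθ, hker⟩ := exists_quotient hS hEsat hsc
    have hfin := hθ.finite_target
    have hS' := hθ.isPGroup_target hS
    have hS'1 : S' ≠ ⊥ := by
      intro hbot
      apply hQR.ne
      apply le_antisymm hQR.le
      intro x hx
      have hx' : x ∈ hθ.ker := by
        refine ⟨hRS hx, ?_⟩
        have := hθ.mem x (hRS hx)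
        rw [hbot] at this
        exact this
      exact hker ▸ hx'
    set L := hθ.preimage (WS W S') with hL
    have hQL : Q < L := lt_of_eq_of_lt hker.symm (lt_preimage hθ (WS_le _) (hW.WS_ne_bot hS' hS'1))
    have hLS : L ≤ S := hθ.preimage_le _
    have hW'n : S' ≤ Subgroup.normalizer (WS W S' : Set Ω') :=
      Subgroup.le_normalizer.trans (hW.normalizer_le hS')
    have hLn : S ≤ Subgroup.normalizer (L : Set Ω) := by
      refine le_normalizer_of_conj_mem (fun s hs x hx => ?_)
      refine ⟨S.mul_mem (S.mul_mem hs hx.1) (S.inv_mem hs), ?_⟩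
      rw [hθ.map_conj hs hx.1]
      exact (Subgroup.mem_normalizer_iff.1 (hW'n (hθ.mem s hs)) _).1 hx.2
    have hb : ∀ Pb fb, Mor Eb Pb fb → Cl (hθ.image T' hT'S) Pb fb := by
      refine ihn _ (hn ▸ SurjMor.card_target_lt hθ (by rw [hker]; exact hQ1)) _ Ω' S' Eb ⊥
        (hθ.image T' hT'S) rfl rfl hS' (hθ.saturated_target hS hEsat) (isNormal_bot Eb) ?_
      rintro Pb fb ⟨-, fb', hfb', e, hfW⟩ y hy
      obtain ⟨f', hf', e'⟩ := hθ.lift _ fb' hfb' (hθ.preimage (Pb ⊔ WS W S')) (hθ.mem_preimage _)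
      set A := hθ.preimage (Pb ⊔ WS W S') with hA
      have hLA : L ≤ A := fun x hx => ⟨hx.1, Subgroup.mem_sup_right hx.2⟩
      have : Finite L := finite_of_le hLS
      have hiso : Iso E L L f' := by
        refine (hf'.mono hLA).iso_self (fun x hx => ⟨hf'.mem (hLA hx), ?_⟩)
        rw [← e' x (hLA hx)]
        exact (hfW _).2 ⟨θ x, hx.2, rfl⟩
      have hcl : Cl T' A f' := by
        refine hlarger E L T' hEsat hQL hLS hLn hypE A f' ⟨f', ?_, fun _ _ => rfl, hiso.2⟩
        rw [sup_eq_left.2 hLA]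
        exact hf'
      have hyS : y ∈ S' := (hfb'.le) (Subgroup.mem_sup_left hy)
      obtain ⟨a, ha, rfl⟩ := hθ.surj y hyS
      have haA : a ∈ A := ⟨ha, Subgroup.mem_sup_left hy⟩
      refine ⟨a⁻¹ * f' a, hcl a haA, ?_⟩
      rw [hθ.map_mul _ (S.inv_mem ha) _ (hf'.mem haA), hθ.map_inv ha, ← e' a haA,
        e _ hy]
    intro x hx
    have hxS := hmorE.le hx
    obtain ⟨fb, hfb, e⟩ := hθ.push P f hmorE (hθ.image P hmorE.le) (hθ.mem_image hmorE.le)
    obtain ⟨t, ht, e2⟩ := hb _ fb hfb (θ x) ⟨x, hx, rfl⟩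
    have hmem : x⁻¹ * f x ∈ S := S.mul_mem (S.inv_mem hxS) (hmorE.mem hx)
    have e3 : θ t = θ (x⁻¹ * f x) := by
      rw [e2, e x hx, hθ.map_mul _ (S.inv_mem hxS) _ (hmorE.mem hx), hθ.map_inv hxS]
    have h4 := (hθ.eq_iff (hT'S ht) hmem).1 e3
    rw [hker] at h4
    have h5 : t⁻¹ * (x⁻¹ * f x) ∈ ⁅S, S⁆ :=
      inf_focal_le hC hS hEsat hQS hQn hext
        ⟨h4, Subgroup.mul_mem _ (Subgroup.inv_mem _ ht.2) (mem_focal hmorE hx)⟩
    have h6 : ⁅S, S⁆ ≤ T :=
      commutator_le_of_cl (fun s hs => hT S _ (inN_conj F (WS_le S) hWn hs))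
    have : x⁻¹ * f x = t * (t⁻¹ * (x⁻¹ * f x)) := by group
    rw [this]
    exact T.mul_mem ht.1 (h6 h5)

/-- **Control of transfer**: if all maps of `N_F(W(S))` lie in `Cl T`, so do all maps of `F`. -/
theorem cl_of_normalizer [Fact p.Prime] (hW : PFun p W) (hG : GT p W) (hC : HC.{u} p)
    {Ω : Type u} [Group Ω] {S : Subgroup Ω} [Finite S] (hS : IsPGroup p S) {F : FusionSystem S}
    (hF : F.IsSaturated p) (T : Subgroup Ω) (hT : ∀ P f, InN F (WS W S) P f → Cl T P f) :
    ∀ P f, Mor F P f → Cl T P f :=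
  goal hW hG hC _ _ Ω S F ⊥ T rfl rfl hS hF (isNormal_bot F) hT

theorem focal_eq [Fact p.Prime] (hW : PFun p W) (hG : GT p W) (hC : HC.{u} p)
    {Ω : Type u} [Group Ω] {S : Subgroup Ω} [Finite S] (hS : IsPGroup p S) {F : FusionSystem S}
    (hF : F.IsSaturated p) {N : FusionSystem (normalizerIn S (WS W S))}
    (hN : F.IsNormalizerSystem (WS W S) N) : N.focalSubgroup = F.focalSubgroup := by
  apply le_antisymm
  · rw [focal_le_iff]
    intro P f hf x hx
    exact mem_focal ((mor_normalizerSystem_iff hN P f).1 hf).2.2.mor hx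
  · rw [focal_le_iff]
    refine cl_of_normalizer hW hG hC hS hF _ (fun P f hh x hx => ?_)
    have hNS : normalizerIn S (WS W S) = S :=
      le_antisymm (normalizerIn_le S _)
        ((le_normalizerIn le_rfl).trans (hW.normalizerIn_le hS le_rfl))
    exact mem_focal (mor_normalizerSystem_of_extN hNS hN hh.2) hx

end Cfsg.Agent.Lib.Helper40.FT
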