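import Cfsg.Agent.Lib.Helper40.FusTransfer3
import Cfsg.Agent.Lib.Helper40.MinFail2
import Cfsg.Agent.S1970

set_option autoImplicit false

/-! Control of transfer in saturated fusion systems: the group-level input. -/

namespace Cfsg.Agent.Lib.Helper40.FT

open Cfsg Cfsg.FusionSystem Cfsg.Agent.Lib.Helper87 Cfsg.Agent.Lib.Helper86.Model
  Cfsg.Agent.Lib.Helper86.SecFree Cfsg.Agent.Lib.Helper86.KL
open scoped commutatorElement

universe u

variable {p : ℕ} {W : ∀ (Q : Type u) [Group Q], Subgroup Q}

theorem GT_of_CT [Fact p.Prime] (hW : IsCharPFunctor.{u} p W)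
    (h : ∀ (X : Type u) [Group X] [Finite X], CT p {W} X) : GT p W := by
  intro G _ _ P _
  have := (h G).inf_le (isCharPFunctor_singleton hW) P
  rw [foc_singleton] at this
  exact this.trans inf_le_right

theorem GT_of_local [Fact p.Prime] (hW : IsCharPFunctor.{u} p W)
    (hT : ∀ (G : Type u) [Group G] [Finite G] (P : Sylow p G),
      Subgroup.centralizer ((Cfsg.pCore p G : Subgroup G) : Set G) ≤ Cfsg.pCore p G →
      Cfsg.pCore p G ⊓ commutator G = Cfsg.pCore p G ⊓
        (commutator ↥(Subgroup.normalizer (((W ↥(P : Subgroup G)).map (P : Subgroup G).subtype :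
          Subgroup G) : Set G))).map (Subgroup.normalizer (((W ↥(P : Subgroup G)).map
          (P : Subgroup G).subtype : Subgroup G) : Set G)).subtype) : GT p W := by
  refine GT_of_CT hW (fun X _ _ => ?_)
  have h1 := Cfsg.Agent.S1970.result (G := X) (p := p) W hW (by
    intro K R hR hc T
    have := hT _ T hc
    rw [Subgroup.map_subtype_commutator] at this
    exact this)
  exact CT.of_isSec (isCharPFunctor_singleton hW)
    (fun K R hR => (CT_singleton_iff W).mpr (h1 K R)) (IsSec.refl X)

/-- S5197, conditional on the text of S5329. -/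
theorem s5197_of [Fact p.Prime] (hC : HC.{u} p)
    (hW1 : ∀ (Q : Type u) [Group Q] [Finite Q], IsPGroup p Q → Nontrivial Q → W Q ≠ ⊥)
    (hW2 : ∀ (Q R : Type u) [Group Q] [Group R] [Finite Q], IsPGroup p Q → ∀ φ : Q ≃* R,
      (W Q).map φ.toMonoidHom = W R)
    (hT : ∀ (G : Type u) [Group G] [Finite G] (P : Sylow p G),
      Subgroup.centralizer ((Cfsg.pCore p G : Subgroup G) : Set G) ≤ Cfsg.pCore p G →
      Cfsg.pCore p G ⊓ commutator G = Cfsg.pCore p G ⊓
        (commutator ↥(Subgroup.normalizer (((W ↥(P : Subgroup G)).map (P : Subgroup G).subtype :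
          Subgroup G) : Set G))).map (Subgroup.normalizer (((W ↥(P : Subgroup G)).map
          (P : Subgroup G).subtype : Subgroup G) : Set G)).subtype)
    {Ω : Type u} [Group Ω] {S : Subgroup Ω} [Finite S] (hS : IsPGroup p S)
    (F : Cfsg.FusionSystem S) (hF : F.IsSaturated p)
    (N : Cfsg.FusionSystem (Cfsg.FusionSystem.normalizerIn S ((W ↥S).map S.subtype)))
    (hN : F.IsNormalizerSystem ((W ↥S).map S.subtype) N) : N.focalSubgroup = F.focalSubgroup :=
  focal_eq (W := W) ⟨hW1, hW2⟩ (GT_of_local ⟨hW1, hW2⟩ hT) hC hS hF hN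

end Cfsg.Agent.Lib.Helper40.FT
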