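import Cfsg.Agent.Lib.Helper40.FusTransfer4
import Cfsg.Agent.Lib.Helper40.KInfQuartic
import Cfsg.Agent.Lib.Helper86.FusionFrobenius

set_option autoImplicit false

/-! `Aut_F(S)` a `p`-group, `p ≥ 5` ⇒ `foc(F) < S` (conditional on the text of S5329). -/

namespace Cfsg.Agent.Lib.Helper40.FT

open Cfsg Cfsg.FusionSystem Cfsg.Agent.Lib.Helper87 Cfsg.Agent.Lib.Helper86.Model
  Cfsg.Agent.Lib.Helper86.SecFree Cfsg.Agent.Lib.Helper86.KL
open scoped commutatorElement

universe u

theorem isPGroup_autGroup_of_sub {p : ℕ} {Ω : Type*} [Group Ω] {S₁ S : Subgroup Ω} (hS₁ : S₁ = S)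
    (N : FusionSystem S₁) (F : FusionSystem S) (hsub : ∀ P f, Mor N P f → Mor F P f)
    (h : IsPGroup p (F.autGroup S)) : IsPGroup p (N.autGroup S₁) := by
  subst hS₁
  exact h.to_le (fun α hα => (Helper87.mem_autGroup_iff F le_rfl α).2
    (hsub _ _ ((Helper87.mem_autGroup_iff N le_rfl α).1 hα)))

theorem isPGroup_autGroup_target {p : ℕ} {Ω : Type*} [Group Ω] {S : Subgroup Ω} {Ω' : Type*}
    [Group Ω'] {S' : Subgroup Ω'} {F : FusionSystem S} {F' : FusionSystem S'} {θ : Ω → Ω'}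
    [Finite S] (h : SurjMor F F' θ) (hp : IsPGroup p (F.autGroup S)) :
    IsPGroup p (F'.autGroup S') := by
  rintro ⟨β, hβ⟩
  have hm := (Helper87.mem_autGroup_iff F' le_rfl β).1 hβ
  obtain ⟨f, hf, e⟩ := h.lift S' (autFun β) hm S
    (fun x => ⟨fun hx => ⟨hx, h.mem x hx⟩, fun hx => hx.1⟩)
  obtain ⟨α, hα, eα⟩ := (hf.iso_self (fun x hx => hf.mem hx)).exists_aut
  obtain ⟨k, hk⟩ := hp ⟨α, hα⟩
  have hk' : α ^ (p ^ k) = 1 := congrArg Subtype.val hk
  have key : ∀ (j : ℕ) (x : S), (((β ^ j) ⟨θ x, h.mem x x.2⟩ : S') : Ω') = θ (((α ^ j) x : S) : Ω) := by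
    intro j
    induction j with
    | zero => intro x; simp
    | succ j ih =>
      intro x
      rw [pow_succ', pow_succ', MulAut.mul_apply, MulAut.mul_apply]
      have h1 : (β ^ j) ⟨θ x, h.mem x x.2⟩ = ⟨θ (((α ^ j) x : S) : Ω), h.mem _ ((α ^ j) x).2⟩ :=
        Subtype.ext (ih x)
      rw [h1, ← autFun_coe, eα, ← e _ ((α ^ j) x).2]
  refine ⟨k, Subtype.ext ?_⟩
  show β ^ (p ^ k) = 1
  ext ⟨y, hy⟩
  obtain ⟨x, hx, rfl⟩ := h.surj y hy
  have := key (p ^ k) ⟨x, hx⟩
  rw [hk'] at this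
  rw [this]
  rfl

theorem commutator_lt {p : ℕ} [Fact p.Prime] {Ω : Type*} [Group Ω] {S : Subgroup Ω} [Finite S]
    (hS : IsPGroup p S) (hS1 : S ≠ ⊥) : ⁅S, S⁆ < S := by
  have hle : ⁅S, S⁆ ≤ S := Subgroup.commutator_le.2 (fun a ha b hb =>
      S.mul_mem (S.mul_mem (S.mul_mem ha hb) (S.inv_mem ha)) (S.inv_mem hb))
  refine lt_of_le_of_ne hle (fun heq => ?_)
  have : Nontrivial S := (Subgroup.nontrivial_iff_ne_bot S).2 hS1
  have : Group.IsNilpotent S := hS.isNilpotent
  have h1 : commutator S < ⊤ := Group.IsSolvable.commutator_lt_top_of_nontrivial S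
  apply h1.ne
  apply Subgroup.map_injective S.subtype_injective
  rw [Subgroup.map_subtype_commutator, heq, ← MonoidHom.range_eq_map, Subgroup.range_subtype]

theorem aut_eq_conj_of_isPGroup {p : ℕ} [Fact p.Prime] {Ω : Type*} [Group Ω] {S : Subgroup Ω}
    [Finite S] (hS : IsPGroup p S) {F : FusionSystem S} (hF : F.IsSaturated p)
    (haut : IsPGroup p (F.autGroup S)) {f : Ω → Ω} (hf : Iso F S S f) :
    ∃ s ∈ S, ∀ x ∈ S, f x = s * x * s⁻¹ := by
  obtain ⟨α, hα, eα⟩ := hf.exists_aut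
  obtain ⟨-, R, hR⟩ := Helper86.isFullyAutomized_self hS F hF
  have htop : (⊤ : Subgroup (F.autGroup S)) = R := R.3 (haut.to_subgroup ⊤) le_top
  have h1 : (⟨α, hα⟩ : F.autGroup S) ∈ (R : Subgroup (F.autGroup S)) := by
    rw [← htop]; exact Subgroup.mem_top _
  rw [hR] at h1
  obtain ⟨s, hs, e⟩ := (Helper87.mem_autInducedBy_iff S S α).1 (Subgroup.mem_subgroupOf.1 h1)
  exact ⟨s, hs, fun x hx => by rw [← eα ⟨x, hx⟩, e]⟩

variable {p : ℕ} {W : ∀ (Q : Type u) [Group Q], Subgroup Q}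

theorem focal_lt_aux [Fact p.Prime] (hW : PFun p W) (hG : GT p W) (hC : HC.{u} p) :
    ∀ (n : ℕ) (Ω : Type u) [Group Ω] (S : Subgroup Ω) [Finite S] (F : FusionSystem S),
      Nat.card S = n → IsPGroup p S → F.IsSaturated p → S ≠ ⊥ → IsPGroup p (F.autGroup S) →
      F.focalSubgroup < S := by
  intro n
  induction n using Nat.strong_induction_on with
  | _ n ih =>
  intro Ω _ S _ F hn hS hF hS1 haut
  set U := WS W S with hU
  have hU1 : U ≠ ⊥ := hW.WS_ne_bot hS hS1
  have hUS : U ≤ S := WS_le S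
  have hUn : S ≤ Subgroup.normalizer (U : Set Ω) :=
    Subgroup.le_normalizer.trans (hW.normalizer_le hS)
  have hNS : normalizerIn S U = S := le_antisymm inf_le_left (le_inf le_rfl hUn)
  suffices hex : ∃ T, T < S ∧ ∀ P f, InN F U P f → Cl T P f by
    obtain ⟨T, hT, hcl⟩ := hex
    exact lt_of_le_of_lt ((focal_le_iff F T).2 (cl_of_normalizer hW hG hC hS hF T hcl)) hT
  by_cases hUS' : U = S
  · refine ⟨⁅S, S⁆, commutator_lt hS hS1, ?_⟩
    rintro P f ⟨hP, f', hf', e, hfU⟩ x hx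
    rw [hUS'] at hf' hfU
    have hPS : P ≤ S := hP.trans (normalizerIn_le S U)
    rw [sup_eq_right.2 hPS] at hf'
    obtain ⟨s, hs, es⟩ := aut_eq_conj_of_isPGroup hS hF haut ⟨hf', hfU⟩
    rw [← e x hx, es x (hPS hx)]
    have e2 : x⁻¹ * (s * x * s⁻¹) = ⁅x⁻¹, s⁆ := by
      rw [commutatorElement_def]; group
    rw [e2]
    exact Subgroup.commutator_mem_commutator (S.inv_mem (hPS hx)) hs
  · obtain ⟨N, hN⟩ := Cfsg.Agent.S5096.result F U hUS
    have hUfn : F.IsFullyNormalized U := ⟨hUS, fun L' _ => by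
      rw [hNS]; exact Subgroup.card_le_of_le (normalizerIn_le S L')⟩
    have hsat := normalizerSystem_saturated hS hF hUfn hN
    have hUN := isNormal_normalizerSystem hUS hN
    have hfinN : Finite (normalizerIn S U) := finite_of_le (normalizerIn_le S U)
    have hSN : IsPGroup p (normalizerIn S U) := hS.to_le (normalizerIn_le S U)
    obtain ⟨Ω', _, S', Nb, θ, h, hker⟩ := exists_quotient hSN hsat (IsNormal.stronglyClosed hUN)
    have hfin := h.finite_target
    have hS'1 : S' ≠ ⊥ := by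
      intro hbot
      apply hUS'
      apply le_antisymm hUS
      intro x hx
      have hx1 : x ∈ normalizerIn S U := by rw [hNS]; exact hx
      have hx' : x ∈ h.ker := by
        refine ⟨hx1, ?_⟩
        have := h.mem x hx1
        rw [hbot] at this
        exact this
      exact hker ▸ hx'
    have hcard : Nat.card S' < n := by
      have := SurjMor.card_target_lt h (by rw [hker]; exact hU1)
      rw [hNS] at this
      omega
    have hautN : IsPGroup p (N.autGroup (normalizerIn S U)) :=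
      isPGroup_autGroup_of_sub hNS N F
        (fun P f hf => ((mor_normalizerSystem_iff hN P f).1 hf).2.2.mor) haut
    have hlt := ih _ hcard Ω' S' Nb rfl (h.isPGroup_target hSN) (h.saturated_target hSN hsat) hS'1
      (isPGroup_autGroup_target h hautN)
    refine ⟨h.preimage Nb.focalSubgroup, lt_of_le_of_ne ?_ ?_, ?_⟩
    · exact (h.preimage_le _).trans (normalizerIn_le S U)
    · intro heq
      apply hlt.ne
      apply le_antisymm hlt.le
      intro y hy
      obtain ⟨x, hx, rfl⟩ := h.surj y hy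
      have : x ∈ h.preimage Nb.focalSubgroup := by
        rw [heq]; exact normalizerIn_le S U hx
      exact this.2
    · intro P f hh x hx
      exact SurjMor.focal_le_preimage h (mem_focal (mor_normalizerSystem_of_extN hNS hN hh.2) hx)

/-- S5252, conditional on the text of S5329. -/
theorem s5252_of {Ω : Type u} [Group Ω] {S : Subgroup Ω} [Finite S] (p : ℕ) [Fact p.Prime]
    (hC : HC.{u} p) (hS : IsPGroup p S) (F : Cfsg.FusionSystem S) (hF : F.IsSaturated p)
    (hp : 5 ≤ p) (hS1 : S ≠ ⊥) (haut : IsPGroup p ↥(F.autGroup S)) : F.focalSubgroup < S := by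
  have hW := Cfsg.Agent.Lib.Helper39.kInfLower_isCharPFunctor.{u} p
  exact focal_lt_aux (W := kInfLower) ⟨hW.1, hW.2⟩
    (GT_of_CT hW (fun X _ _ => CT_of_quartic hp hW (quartic_lower p) X)) hC _ Ω S F rfl hS hF hS1 haut

end Cfsg.Agent.Lib.Helper40.FT
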