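import Cfsg.Agent.Lib.Helper87.Hyperfocal

set_option autoImplicit false

/-! Two rungs on the hyperfocal subgroup (for helper90's Theorem T'). -/

namespace Cfsg.Agent.Lib.Helper40

open Cfsg Cfsg.FusionSystem Cfsg.Agent.Lib.Helper87

/-- every map of `F` is, modulo the hyperfocal subgroup, conjugation by an element of `S`. -/
theorem exists_conj_mod_hyperfocal {Ω : Type*} [Group Ω] {S : Subgroup Ω} [Finite S] {p : ℕ}
    [Fact p.Prime] (hS : IsPGroup p S) {F : FusionSystem S} (hF : F.IsSaturated p)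
    {P : Subgroup Ω} {f : Ω → Ω} (h : Mor F P f) :
    ∃ u ∈ S, ∀ x ∈ P, (u * x * u⁻¹)⁻¹ * f x ∈ F.hyperfocalSubgroup p := by
  set H := F.hyperfocalSubgroup p with hH
  have hn : ∀ s ∈ S, ∀ y ∈ H, s * y * s⁻¹ ∈ H := fun s hs y hy => hyperfocal_conj_mem F p hs hy
  refine alperin_induction hS hF
    (fun P f => ∃ u ∈ S, ∀ x ∈ P, (u * x * u⁻¹)⁻¹ * f x ∈ H) ?_ ?_ ?_ ?_ ?_ P f h
  · rintro P f g ⟨u, hu, h⟩ e
    exact ⟨u, hu, fun x hx => by rw [← e x hx]; exact h x hx⟩
  · rintro P R f _ ⟨u, hu, h⟩ hR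
    exact ⟨u, hu, fun x hx => h x (hR hx)⟩
  · rintro P Q f g _ _ ⟨u, hu, h⟩ ⟨v, hv, h'⟩ hPQ
    refine ⟨v * u, S.mul_mem hv hu, fun x hx => ?_⟩
    have e : (v * u * x * (v * u)⁻¹)⁻¹ * (g ∘ f) x =
        (v * ((u * x * u⁻¹)⁻¹ * f x) * v⁻¹) * ((v * f x * v⁻¹)⁻¹ * g (f x)) := by
      show (v * u * x * (v * u)⁻¹)⁻¹ * g (f x) = _
      group
    rw [e]
    exact H.mul_mem (hn v hv _ (h x hx)) (h' _ (hPQ x hx))
  · rintro P Q f g hf _ hgf ⟨u, hu, h⟩
    refine ⟨u⁻¹, S.inv_mem hu, fun y hy => ?_⟩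
    obtain ⟨x, hx, rfl⟩ := hf.surj hy
    rw [hgf x hx]
    have e : (u⁻¹ * f x * u⁻¹⁻¹)⁻¹ * x = u⁻¹ * ((u * x * u⁻¹)⁻¹ * f x)⁻¹ * u⁻¹⁻¹ := by group
    rw [e]
    exact hn _ (S.inv_mem hu) _ (H.inv_mem (h x hx))
  · intro U hU
    left
    intro α hα
    obtain ⟨w, hw, s, hs, e⟩ := aut_eq_residual_mul_conj (fullyNormalized_fullyAutomized hS hF hU) hα
    refine ⟨s, hs.1, fun x hx => ?_⟩
    rw [autFun_apply α hx, e]
    have hsx : s * x * s⁻¹ ∈ U := (Subgroup.mem_normalizer_iff.1 hs.2 x).1 hx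
    show (s * x * s⁻¹)⁻¹ * autFun (w : MulAut U) (s * x * s⁻¹) ∈ H
    rw [autFun_apply _ hsx]
    exact mem_hyperfocal_of hU.1 hw ⟨_, hsx⟩

/-- **Coprime action, elementary form**: `[P, α] = [P, α, α]` for an automorphism `α` of order prime
to `p` of a `p`-group `P`. -/
theorem comm_mem_closure_comm {P : Type*} [Group P] {p : ℕ} (hP : IsPGroup p P)
    (α : MulAut P) (hα : (orderOf α).Coprime p) (x : P) :
    x⁻¹ * α x ∈ Subgroup.closure {z : P | ∃ y ∈ Subgroup.closure (Set.range fun x : P => x⁻¹ * α x),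
      z = y⁻¹ * α y} := by
  set B := Subgroup.closure (Set.range fun x : P => x⁻¹ * α x) with hB
  set D := Subgroup.closure {z : P | ∃ y ∈ B, z = y⁻¹ * α y} with hD
  have hcB : ∀ x : P, x⁻¹ * α x ∈ B := fun x => Subgroup.subset_closure ⟨x, rfl⟩
  have hcD : ∀ y ∈ B, y⁻¹ * α y ∈ D := fun y hy => Subgroup.subset_closure ⟨y, hy, rfl⟩
  have hαB : ∀ y ∈ B, α y ∈ B := by
    intro y hy
    have : α y = y * (y⁻¹ * α y) := by group
    rw [this]
    exact B.mul_mem hy (hcB y)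
  have hαkB : ∀ (k : ℕ), ∀ y ∈ B, (α ^ k) y ∈ B := by
    intro k
    induction k with
    | zero => intro y hy; simpa using hy
    | succ k ih =>
      intro y hy
      rw [pow_succ', MulAut.mul_apply]
      exact hαB _ (ih y hy)
  have hnorm : ∀ b ∈ B, ∀ d ∈ D, b⁻¹ * d * b ∈ D := by
    intro b hb d hd
    induction hd using Subgroup.closure_induction with
    | mem z hz =>
      obtain ⟨y, hy, rfl⟩ := hz
      have e : b⁻¹ * (y⁻¹ * α y) * b = ((y * b)⁻¹ * α (y * b)) * (b⁻¹ * α b)⁻¹ := by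
        rw [map_mul]; group
      rw [e]
      exact D.mul_mem (hcD _ (B.mul_mem hy hb)) (D.inv_mem (hcD b hb))
    | one => simp
    | mul u v _ _ hu hv =>
      have e : b⁻¹ * (u * v) * b = (b⁻¹ * u * b) * (b⁻¹ * v * b) := by group
      rw [e]
      exact D.mul_mem hu hv
    | inv u _ hu =>
      have e : b⁻¹ * u⁻¹ * b = (b⁻¹ * u * b)⁻¹ := by group
      rw [e]
      exact D.inv_mem hu
  have hstep : ∀ (k : ℕ) (y : P), y⁻¹ * (α ^ (k + 1)) y =
      (y⁻¹ * (α ^ k) y) * (((α ^ k) y)⁻¹ * α ((α ^ k) y)) := by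
    intro k y
    rw [pow_succ', MulAut.mul_apply]
    group
  have h2 : ∀ (k : ℕ), ∀ b ∈ B, b⁻¹ * (α ^ k) b ∈ D := by
    intro k
    induction k with
    | zero => intro b _; simp
    | succ k ih =>
      intro b hb
      rw [hstep]
      exact D.mul_mem (ih b hb) (hcD _ (hαkB k b hb))
  set b := x⁻¹ * α x with hb
  have hbB : b ∈ B := hcB x
  have hcomm : ∀ k : ℕ, ((α ^ k) x)⁻¹ * α ((α ^ k) x) = (α ^ k) b := by
    intro k
    rw [hb, map_mul, map_inv, ← MulAut.mul_apply, ← MulAut.mul_apply, ← pow_succ, ← pow_succ']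
  have h3 : ∀ k : ℕ, (b ^ k)⁻¹ * (x⁻¹ * (α ^ k) x) ∈ D := by
    intro k
    induction k with
    | zero => simp
    | succ k ih =>
      rw [hstep, hcomm]
      have e : (b ^ (k + 1))⁻¹ * (x⁻¹ * (α ^ k) x * (α ^ k) b) =
          (b⁻¹ * ((b ^ k)⁻¹ * (x⁻¹ * (α ^ k) x)) * b) * (b⁻¹ * (α ^ k) b) := by
        rw [pow_succ]; group
      rw [e]
      exact D.mul_mem (hnorm b hbB _ ih) (h2 k b hbB)
  have h4 := h3 (orderOf α)
  rw [pow_orderOf_eq_one, MulAut.one_apply, inv_mul_cancel, mul_one] at h4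
  have h5 : b ^ orderOf α ∈ D := by
    have := D.inv_mem h4
    rwa [inv_inv] at this
  obtain ⟨m, hm⟩ := hP b
  have hco : (orderOf α).Coprime (orderOf b) :=
    Nat.Coprime.coprime_dvd_right (orderOf_dvd_of_pow_eq_one hm) (Nat.Coprime.pow_right m hα)
  obtain ⟨j, hj⟩ := exists_pow_eq_self_of_coprime hco
  rw [← hj]
  exact D.pow_mem h5 j

/-- the hyperfocal subgroup is generated by the `y⁻¹ f(y)` with `y` in the hyperfocal subgroup. -/
theorem hyperfocal_le_closure_self {Ω : Type*} [Group Ω] {S : Subgroup Ω} [Finite S] {p : ℕ}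
    [Fact p.Prime] (hS : IsPGroup p S) (F : FusionSystem S) :
    F.hyperfocalSubgroup p ≤ Subgroup.closure {z : Ω | ∃ (y : Ω) (f : Ω → Ω),
      y ∈ F.hyperfocalSubgroup p ∧ Mor F (Subgroup.zpowers y) f ∧ z = y⁻¹ * f y} := by
  set C := Subgroup.closure {z : Ω | ∃ (y : Ω) (f : Ω → Ω),
      y ∈ F.hyperfocalSubgroup p ∧ Mor F (Subgroup.zpowers y) f ∧ z = y⁻¹ * f y} with hC
  have key : ∀ (P : Subgroup Ω), P ≤ S → ∀ w ∈ pResidual p (F.autGroup P), ∀ x : P,
      (x : Ω)⁻¹ * ((w : MulAut P) x : P) ∈ C := by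
    intro P hP w hw
    induction hw using Subgroup.closure_induction with
    | mem w hw =>
      have hw' : Nat.Coprime (orderOf w) p := hw
      have hres : w ∈ pResidual p (F.autGroup P) := Subgroup.subset_closure hw
      set α : MulAut P := (w : MulAut P) with hα
      have hαo : (orderOf α).Coprime p := by
        rw [hα, Subgroup.orderOf_coe]; exact hw'
      have hmor : Mor F P (autFun α) := (mem_autGroup_iff F hP α).1 w.2
      have hB : ∀ y ∈ Subgroup.closure (Set.range fun x : P => x⁻¹ * α x),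
          (y : Ω) ∈ F.hyperfocalSubgroup p := by
        intro y hy
        induction hy using Subgroup.closure_induction with
        | mem z hz =>
          obtain ⟨x, rfl⟩ := hz
          exact mem_hyperfocal_of hP hres x
        | one => exact Subgroup.one_mem _
        | mul u v _ _ hu hv => exact Subgroup.mul_mem _ hu hv
        | inv u _ hu => exact Subgroup.inv_mem _ hu
      have hD : ∀ d ∈ Subgroup.closure {z : P | ∃ y ∈ Subgroup.closure
          (Set.range fun x : P => x⁻¹ * α x), z = y⁻¹ * α y}, (d : Ω) ∈ C := by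
        intro d hd
        induction hd using Subgroup.closure_induction with
        | mem z hz =>
          obtain ⟨y, hy, rfl⟩ := hz
          refine Subgroup.subset_closure ⟨(y : Ω), autFun α, hB y hy, hmor.mono ?_, ?_⟩
          · rw [Subgroup.zpowers_le]; exact y.2
          · rw [autFun_coe]; rfl
        | one => exact Subgroup.one_mem _
        | mul u v _ _ hu hv => exact Subgroup.mul_mem _ hu hv
        | inv u _ hu => exact Subgroup.inv_mem _ hu
      intro x
      exact hD _ (comm_mem_closure_comm (hS.to_le hP) α hαo x)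
    | one => intro x; simp
    | mul u v _ _ hu hv =>
      intro x
      have e : (x : Ω)⁻¹ * ((((u * v : F.autGroup P) : MulAut P) x : P) : Ω) =
          ((x : Ω)⁻¹ * (((v : MulAut P) x : P) : Ω)) *
            ((((v : MulAut P) x : P) : Ω)⁻¹ * (((u : MulAut P) ((v : MulAut P) x) : P) : Ω)) := by
        rw [Subgroup.coe_mul, MulAut.mul_apply]; group
      rw [e]
      exact C.mul_mem (hv x) (hu _)
    | inv u _ hu =>
      intro x
      have h1 := hu (((u⁻¹ : F.autGroup P) : MulAut P) x)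
      have e : (u : MulAut P) (((u⁻¹ : F.autGroup P) : MulAut P) x) = x := by
        rw [Subgroup.coe_inv, MulAut.apply_inv_self]
      rw [e] at h1
      have e2 : (x : Ω)⁻¹ * ((((u⁻¹ : F.autGroup P) : MulAut P) x : P) : Ω) =
          (((((u⁻¹ : F.autGroup P) : MulAut P) x : P) : Ω)⁻¹ * (x : Ω))⁻¹ := by group
      rw [e2]
      exact C.inv_mem h1
  unfold FusionSystem.hyperfocalSubgroup
  rw [Subgroup.closure_le]
  rintro _ ⟨P, α, x, hP, hα, rfl⟩
  exact key P hP α hα x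

end Cfsg.Agent.Lib.Helper40
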