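import Cfsg.Agent.Lib.Helper53.WcFactor
import Cfsg.Agent.Lib.Helper53.Large4
import Cfsg.Agent.Lib.Helper27.PQS
import Cfsg.Agent.Lib.Helper28.Components

/-! Large subgroups acting with a quasisimple section on a module (towards S2860). -/

set_option autoImplicit false
open Cfsg

namespace Cfsg.Agent.Lib.Helper40.QSE


open Cfsg.Agent.Lib.Helper53

variable {G : Type*} [Group G]

/-- Dedekind: `B ≤ A ⊔ D`, `A ≤ B`, `D` normalises `A` ⟹ `B ≤ A ⊔ (B ⊓ D)`. -/
theorem dedekind {A B D : Subgroup G} (hAB : A ≤ B) (hD : A ≤ Subgroup.normalizer (D : Set G))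
    (h : B ≤ A ⊔ D) : B ≤ A ⊔ (B ⊓ D) := by
  intro x hx
  obtain ⟨a, ha, d, hd, rfl⟩ := (mem_sup_of_le_normalizer hD).1 (h hx)
  refine Subgroup.mul_mem_sup ha ⟨?_, hd⟩
  have : d = a⁻¹ * (a * d) := by group
  rw [this]
  exact B.mul_mem (B.inv_mem (hAB ha)) hx

/-- FIN -/
theorem fin_step {p : ℕ} {L X C R N W : Subgroup G}
    (hLL : (pResidual p ↥L).map L.subtype = L)
    (hLX : L ≤ X) (hXL : X ≤ Subgroup.normalizer (L : Set G))
    (hXR : X ≤ Subgroup.normalizer (R : Set G)) (hR : IsPGroup p ↥R)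
    (hXC : ⁅X, C⁆ ≤ R)
    (hNL : N ≤ L) (hLN : L ≤ Subgroup.normalizer (N : Set G))
    (hsup : L ≤ N ⊔ (L ⊓ C)) (hWX : W ≤ X) (hWN : W ≤ Subgroup.normalizer (N : Set G))
    (hLW : ⁅L, W⁆ = L) : N = L := by
  apply le_antisymm hNL
  have hRL : IsPGroup p ↥(R ⊓ L) := hR.to_le inf_le_left
  have hRLn : R ⊓ L ≤ Subgroup.normalizer (N : Set G) := inf_le_right.trans hLN
  have hLM : L ≤ Subgroup.normalizer (((R ⊓ L) ⊔ N : Subgroup G) : Set G) :=
    le_normalizer_sup (le_normalizer_inf (hLX.trans hXR) Subgroup.le_normalizer) hLN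
  have h1 : ⁅N ⊔ (L ⊓ C), W⁆ ≤ (R ⊓ L) ⊔ N := by
    apply commutator_sup_le (hNL.trans hLM) (inf_le_left.trans hLM)
    · exact le_trans ((Subgroup.le_normalizer_iff_commutator_le_left).1 hWN) le_sup_right
    · refine le_trans (le_inf ?_ ?_) le_sup_left
      · rw [Subgroup.commutator_comm]
        exact (Subgroup.commutator_mono hWX inf_le_right).trans hXC
      · exact (Subgroup.commutator_mono inf_le_left hWX).trans
          ((Subgroup.le_normalizer_iff_commutator_le_left).1 hXL)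
  have h2 : L ≤ (R ⊓ L) ⊔ N := by
    calc L = ⁅L, W⁆ := hLW.symm
      _ ≤ ⁅N ⊔ (L ⊓ C), W⁆ := Subgroup.commutator_mono hsup le_rfl
      _ ≤ _ := h1
  have h3 := pRes_le_of_le_sup hRLn hRL h2
  rwa [hLL] at h3

theorem main_internal [Finite G] {p : ℕ} [Fact p.Prime] {Q U E : Subgroup G}
    (hQp : IsPGroup p ↥Q) (hQ1 : Q ≠ ⊥)
    (hQ : IsLarge Q) (hUp : IsPGroup p ↥U) (hU1 : U ≠ ⊥) (hQE : Q ≤ E)
    (hEU : E ≤ Subgroup.normalizer (U : Set G)) (hQn : ¬ E ≤ Subgroup.normalizer (Q : Set G))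
    (I1 : ∀ Y : Subgroup G, Y ≤ E → IsPGroup p ↥Y → ¬ Y ≤ Subgroup.centralizer (U : Set G) →
      (pResidual p ↥E).map E.subtype ≤ ⁅(pResidual p ↥E).map E.subtype, Y⁆ ⊔
        (E ⊓ Subgroup.centralizer (U : Set G)))
    (I2 : (pResidual p ↥E).map E.subtype ≤
      ⁅(pResidual p ↥E).map E.subtype, (pResidual p ↥E).map E.subtype⁆ ⊔
        (E ⊓ Subgroup.centralizer (U : Set G)))
    {Er : Subgroup G}
    (hEr : Er = (pResidual p ↥(weakClosure Q E)).map (weakClosure Q E).subtype) :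
    (pResidual p ↥E).map E.subtype ⊔ (E ⊓ Subgroup.centralizer (U : Set G))
        = Er ⊔ (E ⊓ Subgroup.centralizer (U : Set G)) ∧
      ⁅Er, Er⁆ = Er ∧ (pResidual p ↥Er).map Er.subtype = Er ∧
      (∀ Y : Subgroup G, Y ≤ E → IsPGroup p ↥Y → ¬ Y ≤ Subgroup.centralizer (U : Set G) →
        ⁅Er, Y⁆ = Er) ∧
      ⁅Er ⊓ Subgroup.centralizer (U : Set G), Er⁆ ≤ pCoreOf p Er ∧ Er ≤ E ∧
      E ≤ Subgroup.normalizer (Er : Set G) := by
  set C := Subgroup.centralizer (U : Set G) with hC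
  set P := (pResidual p ↥E).map E.subtype with hP
  set X := weakClosure Q E with hXdef
  have hwc : IsWeaklyClosedSubgroup p Q := IsLarge_wc hQ hQp hQ1
  have hXE : X ≤ E := weakClosure_le Q E
  have hQX : Q ≤ X := le_weakClosure hQE
  have hEX : E ≤ Subgroup.normalizer (X : Set G) :=
    Subgroup.le_normalizer.trans (normalizer_le_normalizer_weakClosure Q E)
  have hErX : Er ≤ X := hEr ▸ pRes_le p X
  have hErE : Er ≤ E := hErX.trans hXE
  have hXEr : Subgroup.normalizer (X : Set G) ≤ Subgroup.normalizer (Er : Set G) :=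
    hEr ▸ normalizer_le_normalizer_pRes p X
  have hEEr : E ≤ Subgroup.normalizer (Er : Set G) := hEX.trans hXEr
  have hX : X = Er ⊔ Q := hEr ▸ wc_weakClosure_eq_pRes_sup hQp hwc hQE
  have hErQ : ⁅Er, Q⁆ = Er := by rw [hEr]; exact wc_pRes_commutator hQp hwc hQE
  obtain ⟨-, hXC, -⟩ := large_weakClosure_centralizer hQ hQp hQ1 hQE hUp hU1 hEU
  have hQC : ¬ Q ≤ C := by
    intro h
    exact hQn (hEU.trans (hQ.2 U (Subgroup.le_centralizer_iff.1 h) hU1))
  have hEC : E ≤ Subgroup.normalizer (C : Set G) :=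
    hEU.trans (normalizer_le_normalizer_centralizer U)
  have hED0 : E ≤ Subgroup.normalizer ((E ⊓ C : Subgroup G) : Set G) :=
    le_normalizer_inf Subgroup.le_normalizer hEC
  have hPE : P ≤ E := pRes_le p E
  have hErP : Er ≤ P := hEr ▸ pRes_mono p hXE
  have hPle : P ≤ Er ⊔ (E ⊓ C) := by
    apply pRes_le_of_pRes_le_sup (A := Q) (hQE.trans (le_normalizer_sup hEEr hED0)) hQp
    refine (I1 Q hQE hQp hQC).trans (sup_le ?_ (le_sup_right.trans le_sup_right))
    have h1 : ⁅P, Q⁆ ≤ X := by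
      rw [Subgroup.commutator_comm]
      exact (Subgroup.commutator_mono hQX hPE).trans
        ((Subgroup.le_normalizer_iff_commutator_le_left).1 hEX)
    refine h1.trans ?_
    rw [hX]
    exact sup_le (le_sup_left.trans le_sup_right) le_sup_left
  have GEN : ∀ W : Subgroup G, W ≤ E → ⁅P, W⁆ ≤ ⁅Er, W⁆ ⊔ (E ⊓ C) := by
    intro W hW
    refine (Subgroup.commutator_mono hPle le_rfl).trans ?_
    apply commutator_sup_le
    · exact le_normalizer_sup (Subgroup.normalizer_commutator_ge_left _ _) (hErE.trans hED0)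
    · exact le_sup_right.trans Subgroup.le_normalizer
    · exact le_sup_left
    · exact le_trans ((Subgroup.le_normalizer_iff_commutator_le_left).1 (hW.trans hED0)) le_sup_right
  have h3 : (pResidual p ↥Er).map Er.subtype = Er := by
    subst hEr
    exact pRes_pRes p X
  have hXX : X ≤ Subgroup.normalizer (Er : Set G) := hXE.trans hEEr
  have h2 : ⁅Er, Er⁆ = Er := by
    apply fin_step (X := X) (C := C) (R := pCoreOf p X) (W := Q) h3 hErX hXX
      (le_normalizer_pCoreOf p X) (pCoreOf_isPGroup p X) hXC (Subgroup.commutator_le_self Er)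
      (le_normalizer_commutator Subgroup.le_normalizer Subgroup.le_normalizer) ?_ hQX
      (le_normalizer_commutator (hQX.trans hXX) (hQX.trans hXX)) hErQ
    have h4 : Er ≤ ⁅Er, Er⁆ ⊔ (E ⊓ C) := by
      refine hErP.trans (I2.trans (sup_le ?_ le_sup_right))
      refine (GEN P hPE).trans (sup_le ?_ le_sup_right)
      rw [Subgroup.commutator_comm]
      exact GEN Er hErE
    refine (dedekind (Subgroup.commutator_le_self Er)
      (((Subgroup.commutator_le_self Er).trans hErE).trans hED0) h4).trans ?_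
    exact sup_le_sup le_rfl (inf_le_inf le_rfl inf_le_right)
  refine ⟨le_antisymm (sup_le hPle le_sup_right) (sup_le_sup hErP le_rfl), h2, h3, ?_, ?_, hErE,
    hEEr⟩
  · intro Y hYE hYp hYC
    have hNL : ⁅Er, Y⁆ ≤ Er := (Subgroup.le_normalizer_iff_commutator_le_left).1 (hYE.trans hEEr)
    apply fin_step (X := X) (C := C) (R := pCoreOf p X) (W := Er) h3 hErX hXX
      (le_normalizer_pCoreOf p X) (pCoreOf_isPGroup p X) hXC hNL
      (Subgroup.normalizer_commutator_ge_left _ _) ?_ hErX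
      (Subgroup.normalizer_commutator_ge_left _ _) h2
    have h4 : Er ≤ ⁅Er, Y⁆ ⊔ (E ⊓ C) :=
      hErP.trans ((I1 Y hYE hYp hYC).trans (sup_le (GEN Y hYE) le_sup_right))
    refine (dedekind hNL ((hNL.trans hErE).trans hED0) h4).trans ?_
    exact sup_le_sup le_rfl (inf_le_inf le_rfl inf_le_right)
  · refine le_trans (le_inf ?_ ?_) (pCoreOf_inf_le p hErX)
    · rw [Subgroup.commutator_comm]
      exact (Subgroup.commutator_mono hErX inf_le_right).trans hXC
    · exact (Subgroup.commutator_mono inf_le_left le_rfl).trans (Subgroup.commutator_le_self Er)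




/-- KL: in a finite group `H` with `O_p(H)=1` and `O^p(H)` quasisimple, `[O^p(H),Y]=O^p(H)` for every
nontrivial `p`-subgroup `Y`. -/
theorem KL {H : Type*} [Group H] [Finite H] {p : ℕ} [Fact p.Prime] (hred : pCore p H = ⊥)
    (hqs : IsQuasisimple ↥(pResidual p H)) (Y : Subgroup H) (hY : IsPGroup p ↥Y) (hY1 : Y ≠ ⊥) :
    ⁅pResidual p H, Y⁆ = pResidual p H := by
  set K := pResidual p H with hKdef
  have hKn : K.Normal := pResidual_normal p H
  obtain ⟨hperf, hne, hN⟩ := Cfsg.Agent.Lib.Helper27.isQuasisimple_iff.1 hqs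
  have hNK : ⁅K, Y⁆ ≤ K := Subgroup.commutator_le_left K Y
  rcases hN ⁅K, Y⁆ hNK (Subgroup.normalizer_commutator_ge_left _ _) with h | h
  · exact h
  · exfalso
    have h1 : ⁅Y, K⁆ = ⊥ := Cfsg.Agent.Lib.Helper27.comm_eq_bot_of_perfect hperf
      (by rw [Subgroup.commutator_comm Y K]; exact h)
    obtain ⟨S, hYS⟩ := hY.exists_le_sylow
    have hKS : K ⊔ S = ⊤ := pResidual_sup_sylow S
    have hZn : (Subgroup.centralizer (K : Set H)).Normal := inferInstance
    have hT1 : K ≤ Subgroup.normalizer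
        ((Subgroup.centralizer (K : Set H) ⊓ (S : Subgroup H) : Subgroup H) : Set H) :=
      (Subgroup.le_centralizer_iff.1 inf_le_left).trans (Subgroup.centralizer_le_normalizer _)
    have hT2 : (S : Subgroup H) ≤ Subgroup.normalizer
        ((Subgroup.centralizer (K : Set H) ⊓ (S : Subgroup H) : Subgroup H) : Set H) :=
      le_normalizer_inf Subgroup.le_normalizer_of_normal Subgroup.le_normalizer
    have hTn : (Subgroup.centralizer (K : Set H) ⊓ (S : Subgroup H) : Subgroup H).Normal := by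
      rw [← Subgroup.normalizer_eq_top_iff, eq_top_iff, ← hKS]
      exact sup_le hT1 hT2
    have hTp : IsPGroup p ↥(Subgroup.centralizer (K : Set H) ⊓ (S : Subgroup H) : Subgroup H) :=
      S.2.to_le inf_le_right
    have hT := Cfsg.Agent.Lib.Helper53.le_pCore hTn hTp
    rw [hred] at hT
    exact hY1 (eq_bot_iff.2 ((le_inf (Subgroup.commutator_eq_bot_iff_le_centralizer.1 h1) hYS).trans hT))


theorem transport {E C : Subgroup G} [hn : (C.subgroupOf E).Normal] {A B : Subgroup ↥E}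
    (h : A.map (QuotientGroup.mk' (C.subgroupOf E)) ≤ B.map (QuotientGroup.mk' (C.subgroupOf E))) :
    A.map E.subtype ≤ B.map E.subtype ⊔ (E ⊓ C) := by
  rw [Subgroup.map_le_map_iff, QuotientGroup.ker_mk'] at h
  have h2 := Subgroup.map_mono (f := E.subtype) h
  rwa [Subgroup.map_sup, Subgroup.subgroupOf_map_subtype, inf_comm] at h2

theorem le_of_map_eq_bot {E C T : Subgroup G} [hn : (C.subgroupOf E).Normal] (hT : T ≤ E)
    (h : (T.subgroupOf E).map (QuotientGroup.mk' (C.subgroupOf E)) = ⊥) : T ≤ C := by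
  rw [Subgroup.map_eq_bot_iff, QuotientGroup.ker_mk'] at h
  intro t ht
  have : (⟨t, hT ht⟩ : ↥E) ∈ C.subgroupOf E := h (by rw [Subgroup.mem_subgroupOf]; exact ht)
  rwa [Subgroup.mem_subgroupOf] at this

theorem bridge [Finite G] {p : ℕ} [Fact p.Prime] {E C : Subgroup G}
    [hn : (C.subgroupOf E).Normal]
    (hred : pCore p (↥E ⧸ C.subgroupOf E) = ⊥)
    (hqs : IsQuasisimple ↥((pResidual p ↥E ⊔ C.subgroupOf E).map
      (QuotientGroup.mk' (C.subgroupOf E)))) :
    (∀ Y : Subgroup G, Y ≤ E → IsPGroup p ↥Y → ¬ Y ≤ C →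
      (pResidual p ↥E).map E.subtype ≤ ⁅(pResidual p ↥E).map E.subtype, Y⁆ ⊔ (E ⊓ C)) ∧
    ((pResidual p ↥E).map E.subtype ≤
      ⁅(pResidual p ↥E).map E.subtype, (pResidual p ↥E).map E.subtype⁆ ⊔ (E ⊓ C)) ∧
    (∀ T : Subgroup G, T ≤ E → E ≤ Subgroup.normalizer (T : Set G) → IsPGroup p ↥T → T ≤ C) ∧
    (∀ A : Subgroup G, A ≤ E → (pResidual p ↥E).map E.subtype ⊔ (E ⊓ C) = A ⊔ (E ⊓ C) →
      (A.subgroupOf E).map (QuotientGroup.mk' (C.subgroupOf E)) =
        (pResidual p ↥E ⊔ C.subgroupOf E).map (QuotientGroup.mk' (C.subgroupOf E))) := by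
  have hπ : Function.Surjective (QuotientGroup.mk' (C.subgroupOf E)) :=
    QuotientGroup.mk'_surjective _
  have hK : (pResidual p ↥E ⊔ C.subgroupOf E).map (QuotientGroup.mk' (C.subgroupOf E))
      = pResidual p (↥E ⧸ C.subgroupOf E) := by
    rw [Subgroup.map_sup, map_pResidual _ hπ,
      (Subgroup.map_eq_bot_iff _).2 (QuotientGroup.ker_mk' _).ge, sup_bot_eq]
  rw [hK] at hqs
  refine ⟨?_, ?_, ?_, ?_⟩
  · intro Y hYE hYp hYC
    have h1 := KL hred hqs ((Y.subgroupOf E).map (QuotientGroup.mk' (C.subgroupOf E)))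
      ((hYp.comap_subtype).map _) (fun h => hYC (le_of_map_eq_bot hYE h))
    rw [← map_pResidual _ hπ, ← Subgroup.map_commutator] at h1
    have h2 := transport h1.ge
    rwa [Subgroup.map_commutator, Subgroup.map_subgroupOf_eq_of_le hYE] at h2
  · have h1 := (Cfsg.Agent.Lib.Helper27.isQuasisimple_iff.1 hqs).1
    rw [← map_pResidual _ hπ, ← Subgroup.map_commutator] at h1
    have h2 := transport h1.ge
    rwa [Subgroup.map_commutator] at h2
  · intro T hTE hET hTp
    apply le_of_map_eq_bot hTE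
    rw [eq_bot_iff, ← hred]
    apply Cfsg.Agent.Lib.Helper53.le_pCore
    · exact Subgroup.Normal.map ((Subgroup.normal_subgroupOf_iff_le_normalizer hTE).2 hET) _ hπ
    · exact (hTp.comap_subtype).map _
  · intro A hAE h
    rw [Subgroup.map_eq_map_iff, QuotientGroup.ker_mk']
    apply Subgroup.map_injective E.subtype_injective
    rw [Subgroup.map_sup, Subgroup.map_sup, Subgroup.map_sup,
      Subgroup.map_subgroupOf_eq_of_le hAE, Subgroup.subgroupOf_map_subtype, inf_comm C E, h,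
      sup_assoc, sup_idem]



/-- QQ: quasisimple quotients through a central kernel. -/
theorem QQ {L S : Type*} [Group L] [Group S] (f : L →* S) (N : Subgroup L) [N.Normal]
    (hperf : Group.IsPerfect L) (hN : N ≤ f.ker)
    (hc : ⁅f.ker, (⊤ : Subgroup L)⁆ ≤ N) (hq : IsQuasisimple ↥f.range) :
    IsQuasisimple (L ⧸ N) := by
  let g : L ⧸ N →* S := QuotientGroup.lift N f (fun x hx => MonoidHom.mem_ker.1 (hN hx))
  have hperf' : Group.IsPerfect (L ⧸ N) :=
    Group.IsPerfect.ofSurjective (f := QuotientGroup.mk' N) (QuotientGroup.mk'_surjective N)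
  have h1 : ⁅(⊤ : Subgroup (L ⧸ N)), ⊤⁆ = ⊤ := hperf'.commutator_eq_top
  have hrange : (⊤ : Subgroup (L ⧸ N)).map g = f.range := by
    ext s
    constructor
    · rintro ⟨x, -, rfl⟩
      obtain ⟨a, rfl⟩ := QuotientGroup.mk_surjective x
      exact ⟨a, rfl⟩
    · rintro ⟨a, rfl⟩
      exact ⟨QuotientGroup.mk a, Subgroup.mem_top _, rfl⟩
  have hker : (⊤ : Subgroup (L ⧸ N)) ⊓ g.ker
      ≤ Subgroup.centralizer ((⊤ : Subgroup (L ⧸ N)) : Set (L ⧸ N)) := by
    rintro x ⟨-, hx⟩
    obtain ⟨a, rfl⟩ := QuotientGroup.mk_surjective x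
    rw [Subgroup.mem_centralizer_iff]
    rintro y -
    obtain ⟨b, rfl⟩ := QuotientGroup.mk_surjective y
    have ha : a ∈ f.ker := hx
    have h2 := hc (Subgroup.commutator_mem_commutator ha (Subgroup.mem_top b))
    rw [← QuotientGroup.eq_one_iff, commutatorElement_def] at h2
    have h3 : (QuotientGroup.mk a : L ⧸ N) * QuotientGroup.mk b * (QuotientGroup.mk a)⁻¹ *
        (QuotientGroup.mk b)⁻¹ = 1 := by simpa using h2
    have h4 : (QuotientGroup.mk a : L ⧸ N) * QuotientGroup.mk b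
        = QuotientGroup.mk b * QuotientGroup.mk a := by
      have := congrArg (fun t => t * (QuotientGroup.mk b * QuotientGroup.mk a : L ⧸ N)) h3
      simpa [mul_assoc] using this
    exact h4.symm
  have h5 := Cfsg.Agent.Lib.Helper27.qs_of_map_qs g h1 hker (hrange ▸ hq)
  exact Cfsg.Agent.Lib.Helper28.isQuasisimple_of_equiv Subgroup.topEquiv h5

end Cfsg.Agent.Lib.Helper40.QSE
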