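import Cfsg.Agent.Lib.Helper40.CycleCount

/-! Evaluation of the cycle product (transfer) of an involution with labels in `ℤˣ`:
parity count along the orbits of the centralizer of the involution. -/

set_option autoImplicit false

namespace Cfsg.Agent.Lib.Helper40

open Cfsg.Agent.Lib.Helper90 CycleCount

theorem dvd_card_of_invariant_no_fixed {C X : Type*} [Group C] [MulAction C X] [Finite X] {p : ℕ}
    [Fact p.Prime] (hC : IsPGroup p C) (Z : Set X) (hZ : ∀ c : C, ∀ x ∈ Z, c • x ∈ Z)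
    (hfix : ∀ x ∈ Z, ∃ c : C, c • x ≠ x) : p ∣ Nat.card Z := by
  let Z' : SubMulAction C X := ⟨Z, fun c {x} hx => hZ c x hx⟩
  have h1 := hC.card_modEq_card_fixedPoints Z'
  have h2 : IsEmpty (MulAction.fixedPoints C Z') := by
    refine ⟨fun x => ?_⟩
    obtain ⟨c, hc⟩ := hfix x.1.1 x.1.2
    apply hc
    exact congrArg Subtype.val (x.2 c)
  have h3 : Nat.card (MulAction.fixedPoints C Z') = 0 := Nat.card_of_isEmpty
  rw [h3] at h1
  exact (Nat.modEq_zero_iff_dvd.1 h1)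

theorem cyc_involution {G : Type*} [Group G] [Finite G] (hG : IsPGroup 2 G) (Q : Subgroup G)
    (ψ : G → ℤˣ) (hψ : Good Q ⊤ ψ) (j : G) (hj : j ^ 2 = 1)
    (h : ∀ u : G, (∀ c : G, c * j = j * c → u⁻¹ * c * u ∈ Q) → ψ (u⁻¹ * j * u) = -1) :
    Cyc.cyc Q ψ j = (-1) ^ Q.index := by
  classical
  have hjt : j ∈ (⊤ : Subgroup G) := Subgroup.mem_top j
  rw [cyc_eq]
  have hmu : ∀ d : ℕ, d ≠ 1 → mu Q ψ j (d, -1) = 0 := by
    intro d hd
    unfold mu
    rw [Nat.card_eq_zero]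
    left
    refine ⟨fun o => ?_⟩
    have h1 : per Q j o.1.out = d := congrArg Prod.fst o.2
    have h2 : lab Q ψ j o.1.out = -1 := congrArg Prod.snd o.2
    have h3 : per Q j o.1.out ∣ 2 := by
      rw [per_dvd_iff, hj, one_smul]
    have h4 : per Q j o.1.out = 2 := by
      rcases (Nat.dvd_prime Nat.prime_two).1 h3 with h | h
      · exact absurd (h1 ▸ h) hd
      · exact h
    unfold lab at h2
    rw [h4, hj, mul_one, inv_mul_cancel, hψ.one] at h2
    exact absurd h2 (by decide)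
  have hterm : ∀ z ∈ idx G ℤˣ, z ≠ (1, -1) → z.2 ^ mu Q ψ j z = 1 := by
    rintro ⟨d, a⟩ - hz
    rcases Int.units_eq_one_or a with rfl | rfl
    · exact one_pow _
    · have hd : d ≠ 1 := fun hd => hz (by rw [hd])
      rw [hmu d hd, pow_zero]
  have hmem : ((1, -1) : ℕ × ℤˣ) ∈ idx G ℤˣ := by
    unfold idx
    rw [Finset.mem_product]
    refine ⟨Finset.mem_range.2 ?_, Finset.mem_univ _⟩
    have : 0 < Nat.card G := Nat.card_pos
    omega
  rw [Finset.prod_eq_single_of_mem _ hmem hterm]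
  show (-1 : ℤˣ) ^ mu Q ψ j (1, -1) = _
  have hnu : nu Q ψ j (1, -1) = mu Q ψ j (1, -1) := by
    rw [nu_eq hψ hjt, one_mul]
  have hcnt : Cyc.cnt Q ψ j 1 (-1) = nu Q ψ j (1, -1) := by
    rw [cnt_eq hψ hjt, Finset.sum_eq_single_of_mem _ hmem]
    · rw [if_pos]
      exact ⟨dvd_rfl, by simp⟩
    · rintro ⟨d, a⟩ - hz
      rw [if_neg]
      rintro ⟨h1, h2⟩
      have hd : d = 1 := Nat.dvd_one.1 h1
      subst hd
      apply hz
      simp only [Nat.div_self Nat.one_pos, pow_one] at h2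
      rw [h2]
  rw [← hnu, ← hcnt]
  -- parity
  set Y : Set (G ⧸ Q) := {q | ∃ u : G, (u : G ⧸ Q) = q ∧ u⁻¹ * j ^ 1 * u ∈ Q ∧
    ψ (u⁻¹ * j ^ 1 * u) = -1} with hY
  let C : Subgroup G := Subgroup.centralizer {j}
  have hCmem : ∀ c : G, c ∈ C ↔ c * j = j * c := by
    intro c
    rw [Subgroup.mem_centralizer_singleton_iff]
  have hinv : ∀ c : C, ∀ q ∈ Y, c • q ∈ Y := by
    rintro ⟨c, hc⟩ _ ⟨u, rfl, h1, h2⟩
    have e : (c * u)⁻¹ * j ^ 1 * (c * u) = u⁻¹ * j ^ 1 * u := by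
      have h3 := (hCmem c).1 hc
      rw [pow_one]
      calc (c * u)⁻¹ * j * (c * u) = u⁻¹ * (c⁻¹ * (j * c)) * u := by group
        _ = u⁻¹ * (c⁻¹ * (c * j)) * u := by rw [h3]
        _ = u⁻¹ * j * u := by group
    exact ⟨c * u, rfl, by rw [e]; exact h1, by rw [e]; exact h2⟩
  have hdvd : 2 ∣ Nat.card (Yᶜ : Set (G ⧸ Q)) := by
    have : Fact (Nat.Prime 2) := ⟨Nat.prime_two⟩
    apply dvd_card_of_invariant_no_fixed (C := C) (hG.to_subgroup C)
    · intro c q hq hcq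
      apply hq
      have := hinv c⁻¹ _ hcq
      rwa [inv_smul_smul] at this
    · intro q hq
      by_contra hcon
      push Not at hcon
      apply hq
      obtain ⟨u, rfl⟩ := QuotientGroup.mk_surjective q
      have hu : ∀ c : G, c * j = j * c → u⁻¹ * c * u ∈ Q := by
        intro c hc
        have h1 : ((c * u : G) : G ⧸ Q) = (u : G ⧸ Q) := hcon ⟨c, (hCmem c).2 hc⟩
        rw [eq_comm, QuotientGroup.eq] at h1
        rwa [mul_assoc]
      refine ⟨u, rfl, ?_, ?_⟩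
      · rw [pow_one]; exact hu j rfl
      · rw [pow_one]; exact h u hu
  have hsum : Nat.card Y + Nat.card (Yᶜ : Set (G ⧸ Q)) = Q.index := by
    rw [Subgroup.index_eq_card, Nat.card_coe_set_eq, Nat.card_coe_set_eq]
    exact Set.ncard_add_ncard_compl Y
  have hcard : Cyc.cnt Q ψ j 1 (-1) = Nat.card Y := rfl
  rw [hcard, ← hsum, pow_add]
  obtain ⟨m, hm⟩ := hdvd
  rw [hm, pow_mul]
  simp

end Cfsg.Agent.Lib.Helper40
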