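import Cfsg.Agent.Lib.Helper40.ThompsonTransfer
import Cfsg.Agent.Lib.Helper40.FusTransfer1
import Cfsg.Agent.Lib.Helper90.Biset.Transfer

/-! Thompson's transfer lemma for saturated fusion systems (via the characteristic biset). -/

set_option autoImplicit false
set_option linter.style.haveILetI false

namespace Cfsg.Agent.Lib.Helper40

open Cfsg Cfsg.FusionSystem Cfsg.Agent.Lib.Helper87 Cfsg.Agent.Lib.Helper90
  Cfsg.Agent.Lib.Helper90.Biset Cfsg.Agent.Lib.Helper90.Marks CycleCount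

/-- the sign character of a subgroup of index two. -/
theorem exists_sign {G : Type*} [Group G] (H : Subgroup G) (hH : H.index = 2) :
    ∃ lab : G →* ℤˣ, ∀ x, lab x = 1 ↔ x ∈ H := by
  classical
  refine ⟨MonoidHom.mk' (fun x => if x ∈ H then 1 else -1) ?_, ?_⟩
  · intro a b
    have h1 := Subgroup.mul_mem_iff_of_index_two hH (a := a) (b := b)
    by_cases ha : a ∈ H <;> by_cases hb : b ∈ H <;> simp [ha, hb, h1]
  · intro x
    show (if x ∈ H then (1 : ℤˣ) else -1) = 1 ↔ _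
    by_cases hx : x ∈ H
    · simp [hx]
    · simp only [hx, if_false, iff_false]
      decide

theorem hyperfocal_le_focal {Ω : Type*} [Group Ω] {S : Subgroup Ω} (F : FusionSystem S) (p : ℕ) :
    F.hyperfocalSubgroup p ≤ F.focalSubgroup := by
  unfold FusionSystem.hyperfocalSubgroup
  rw [Subgroup.closure_le]
  rintro _ ⟨P, α, x, hP, -, rfl⟩
  have h1 : Mor F P (autFun (α : MulAut P)) := (mem_autGroup_iff F hP _).1 α.2
  have h2 := FT.mem_focal h1 x.2
  rwa [autFun_coe] at h2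

theorem thompson_transfer_fusion {Ω : Type*} [Group Ω] {S : Subgroup Ω} [Finite S]
    (hS : IsPGroup 2 ↥S) (F : FusionSystem S) (hF : F.IsSaturated 2)
    (T : Subgroup Ω) (hT : T.relIndex S = 2)
    (i : Ω) (hi : i ∈ S) (hi2 : orderOf i = 2)
    (h : ∀ j : Ω, F.IsConjElt i j → F.IsFullyNormalized (Subgroup.zpowers j) → j ∉ T) :
    i ∉ F.focalSubgroup := by
  classical
  haveI : Fact (Nat.Prime 2) := ⟨Nat.prime_two⟩
  haveI : Fintype (Subgroup (↥S × ↥S)) := Fintype.ofFinite _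
  intro hfoc
  obtain ⟨lab, hlab⟩ := exists_sign (T.subgroupOf S) hT
  obtain ⟨c, hc, hdeg, hst⟩ := exists_biset hS F hF
  obtain ⟨τ, hτ⟩ := Cyc.exists_hom_cyc (fun D : Subgroup (↥S × ↥S) => Qf D)
    (fun D => lab ∘ phi D) c (by
      intro D hD r hr r' hr'
      show lab (phi D (r * r')) = lab (phi D r) * lab (phi D r')
      rw [(hc D hD).phi_mul hr hr', map_mul])
  have hstab : ∀ (y y' : ↥S) (V : Subgroup Ω) (ϑ : Ω → Ω), Mor F V ϑ → (y : Ω) ∈ V →
      ϑ y = y' → τ y = τ y' := by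
    intro y y' V ϑ hϑ hy hyy'
    rw [hτ, hτ]
    exact stab c hc hst lab ⊤ (fun _ _ _ _ _ => Subgroup.mem_top _)
      (fun h _ h' _ => map_mul lab h h')
      (fun h _ v => by rw [map_mul, map_mul, map_inv, mul_comm, inv_mul_cancel_left])
      y y' (Subgroup.mem_top _) (Subgroup.mem_top _) hϑ hy hyy'
  have hfk : F.focalSubgroup ≤ τ.ker.map S.subtype := by
    unfold FusionSystem.focalSubgroup
    rw [Subgroup.closure_le]
    rintro _ ⟨P, φ, y, hφ, rfl⟩
    have hyS : (y : Ω) ∈ S := (F.le_of_mem hφ).1 y.2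
    have hyS' : φ y ∈ S := (F.le_of_mem hφ).2 y
    refine ⟨(⟨y, hyS⟩ : ↥S)⁻¹ * ⟨φ y, hyS'⟩, ?_, rfl⟩
    show τ _ = 1
    rw [map_mul, map_inv, hstab ⟨y, hyS⟩ ⟨φ y, hyS'⟩ P (ext φ) (Mor.of_hom hφ) y.2 (ext_coe φ y),
      inv_mul_cancel]
  have hτi : τ ⟨i, hi⟩ = 1 := by
    obtain ⟨x', hx', hxx'⟩ := hfk hfoc
    have : x' = ⟨i, hi⟩ := Subtype.ext hxx'
    rw [← this]; exact hx'
  -- a fully normalized conjugate
  have hiS : Subgroup.zpowers i ≤ S := by rw [Subgroup.zpowers_le]; exact hi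
  obtain ⟨J, hconj, hJn⟩ := exists_fullyNormalized_conj F hiS
  obtain ⟨f, hf⟩ := (isConj_iff F _ _).1 hconj
  set j := f i with hj
  have himem : i ∈ Subgroup.zpowers i := Subgroup.mem_zpowers i
  have hjS : j ∈ S := hf.mor.mem himem
  have hi1 : i ^ 2 = 1 := by rw [← hi2]; exact pow_orderOf_eq_one i
  -- images of cyclic groups
  have himg : ∀ (P : Subgroup Ω) (g : Ω → Ω) (x : Ω), Mor F P g → x ∈ P → x ^ 2 = 1 →
      ∀ R : Subgroup Ω, Iso F (Subgroup.zpowers x) R g → R = Subgroup.zpowers (g x) := by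
    intro P g x hg hx hx2 R hR
    apply le_antisymm
    · intro y hy
      obtain ⟨z, hz, rfl⟩ := hR.surj hy
      have hfin : IsOfFinOrder x := isOfFinOrder_iff_pow_eq_one.2 ⟨2, by norm_num, hx2⟩
      obtain ⟨n, rfl⟩ := hfin.mem_powers_iff_mem_zpowers.2 hz
      show g (x ^ n) ∈ _
      rw [hg.map_pow hx]
      exact Subgroup.pow_mem _ (Subgroup.mem_zpowers _) n
    · rw [Subgroup.zpowers_le]
      exact hR.map_mem (Subgroup.mem_zpowers x)
  have hJ : J = Subgroup.zpowers j := himg _ f i hf.mor himem hi1 J hf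
  have hconjElt : ∀ (g : Ω → Ω), Mor F (Subgroup.zpowers i) g → F.IsConjElt i (g i) := by
    rintro g ⟨φ, hφ, e⟩
    exact ⟨φ, hφ, e ⟨i, himem⟩⟩
  have hj2 : j ^ 2 = 1 := by
    rw [hj, ← hf.mor.map_pow himem, hi1, hf.mor.map_one]
  have hτj : τ ⟨j, hjS⟩ = 1 := by
    rw [← hstab ⟨i, hi⟩ ⟨j, hjS⟩ _ f hf.mor himem rfl]
    exact hτi
  -- the centralizer of an element
  have hCmem : ∀ w x, x ∈ centralizerIn S (Subgroup.zpowers w) ↔ x ∈ S ∧ x * w = w * x := by
    intro w x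
    rw [mem_centralizerIn_iff]
    constructor
    · rintro ⟨h1, h2⟩
      exact ⟨h1, (h2 w (Subgroup.mem_zpowers w)).symm⟩
    · rintro ⟨h1, h2⟩
      refine ⟨h1, ?_⟩
      rintro _ ⟨n, rfl⟩
      exact (Commute.zpow_left (show Commute w x from h2.symm) n).eq
  set C := centralizerIn S (Subgroup.zpowers j) with hC
  have hCS : C ≤ S := centralizerIn_le S _
  have hNC : normalizerIn S J ≤ C := by
    intro x hx
    rw [hJ, mem_normalizerIn_iff] at hx
    refine (hCmem j x).2 ⟨hx.1, ?_⟩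
    have h1 := (hx.2 j).1 (Subgroup.mem_zpowers j)
    have hfin : IsOfFinOrder j := isOfFinOrder_iff_pow_eq_one.2 ⟨2, by norm_num, hj2⟩
    obtain ⟨n, hn⟩ := hfin.mem_powers_iff_mem_zpowers.2 h1
    have hn' : j ^ n = x * j * x⁻¹ := hn
    rcases Nat.even_or_odd' n with ⟨m, rfl | rfl⟩
    · rw [pow_mul, hj2, one_pow] at hn'
      have : j = 1 := by
        have h3 : x⁻¹ * (x * j * x⁻¹) * x = j := by group
        rw [← h3, ← hn']; group
      rw [this, mul_one, one_mul]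
    · rw [pow_succ, pow_mul, hj2, one_pow, one_mul] at hn'
      calc x * j = (x * j * x⁻¹) * x := by group
        _ = j * x := by rw [← hn']
  have hJC : J ≤ C := (le_normalizerIn hJn.1).trans hNC
  have hjC : j ∈ C := hJC (hJ ▸ Subgroup.mem_zpowers j)
  -- evaluation
  have heval : ∀ D, c D ≠ 0 →
      Cyc.cyc (Qf D) (lab ∘ phi D) (⟨j, hjS⟩ : ↥S) = (-1) ^ (Qf D).index := by
    intro D hD
    have hDt := hc D hD
    refine cyc_involution hS (Qf D) _ ⟨?_, ?_⟩ _ (Subtype.ext hj2) ?_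
    · intro r r' hr _ hr' _
      show lab (phi D (r * r')) = lab (phi D r) * lab (phi D r')
      rw [hDt.phi_mul hr hr', map_mul]
    · intro r u hr _ hu
      show lab (phi D (u⁻¹ * r * u)) = lab (phi D r)
      rw [hDt.phi_mul ((Qf D).mul_mem ((Qf D).inv_mem hu) hr) hu,
        hDt.phi_mul ((Qf D).inv_mem hu) hr, hDt.phi_inv hu, map_mul, map_mul, map_inv, mul_comm,
        mul_inv_cancel_left]
    · intro u hu
      obtain ⟨b, hb, hb'⟩ := hDt.exists_mor
      have h1 : Mor F C (fun x => (u : Ω)⁻¹ * x * ((u : Ω)⁻¹)⁻¹) := mor_conj F hCS (S.inv_mem u.2)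
      have h2 : ∀ x ∈ C, (fun x => (u : Ω)⁻¹ * x * ((u : Ω)⁻¹)⁻¹) x ∈ (Qf D).map S.subtype := by
        intro x hx
        obtain ⟨hxS, hxj⟩ := (hCmem j x).1 hx
        refine ⟨u⁻¹ * ⟨x, hxS⟩ * u, hu ⟨x, hxS⟩ (Subtype.ext hxj), ?_⟩
        show (u : Ω)⁻¹ * x * u = (u : Ω)⁻¹ * x * ((u : Ω)⁻¹)⁻¹
        rw [inv_inv]
      have hg := h1.comp hb h2
      set g : Ω → Ω := b ∘ (fun x => (u : Ω)⁻¹ * x * ((u : Ω)⁻¹)⁻¹) with hgdef
      have hgj : g j = phi D (u⁻¹ * ⟨j, hjS⟩ * u) := by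
        show b ((u : Ω)⁻¹ * j * ((u : Ω)⁻¹)⁻¹) = _
        rw [inv_inv]
        exact hb' _ (hu ⟨j, hjS⟩ rfl)
      set j' := g j with hj'
      have hJ' : img J g = Subgroup.zpowers j' :=
        himg C g j hg hjC hj2 _ (hJ ▸ (hg.mono hJC).iso_img)
      have hc1 : F.IsConjElt i j' :=
        hconjElt (g ∘ f) (hf.mor.comp hg (fun x hx => hJC (hf.map_mem hx)))
      have hj'S : j' ∈ S := hg.mem hjC
      have hc2 : F.IsFullyNormalized (Subgroup.zpowers j') := by
        refine ⟨by rw [Subgroup.zpowers_le]; exact hj'S, fun R hR => ?_⟩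
        have h3 : F.IsConj J R := by
          refine isConj_trans ?_ hR
          rw [← hJ']
          exact (hg.mono hJC).iso_img.isConj
        refine (hJn.2 R h3).trans ?_
        refine hg.card_le hNC (normalizerIn_le S _) (fun x hx => ?_)
        apply centralizerIn_le_normalizerIn
        have hxC := hNC hx
        refine (hCmem j' (g x)).2 ⟨hg.mem hxC, ?_⟩
        rw [hj', ← hg.map_mul hxC hjC, ← hg.map_mul hjC hxC, ((hCmem j x).1 hxC).2]
      have h4 := h j' hc1 hc2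
      show lab (phi D (u⁻¹ * ⟨j, hjS⟩ * u)) = -1
      rcases Int.units_eq_one_or (lab (phi D (u⁻¹ * ⟨j, hjS⟩ * u))) with h5 | h5
      · exfalso
        apply h4
        have h6 := (hlab _).1 h5
        rw [Subgroup.mem_subgroupOf, ← hgj] at h6
        exact h6
      · exact h5
  have hfinal : τ ⟨j, hjS⟩ = (-1) ^ (∑ D, c D * (D.map (MonoidHom.fst ↥S ↥S)).index) := by
    rw [hτ, ← Finset.prod_pow_eq_pow_sum]
    apply Finset.prod_congr rfl
    intro D _
    by_cases hD : c D = 0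
    · rw [hD, pow_zero, zero_mul, pow_zero]
    · rw [heval D hD, mul_comm (c D), pow_mul]
  rw [hτj] at hfinal
  have hodd : Odd (∑ D, c D * (D.map (MonoidHom.fst ↥S ↥S)).index) := by
    rw [← Nat.not_even_iff_odd, even_iff_two_dvd]
    exact hdeg
  rw [hodd.neg_one_pow] at hfinal
  exact absurd hfinal (by decide)

end Cfsg.Agent.Lib.Helper40
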